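import Groth.Agent.Lib.KInj.Extend
import Mathlib.Algebra.Homology.ModelCategory.Lifting
import Mathlib.CategoryTheory.Adjunction.Additive

/-!
Formal properties of K-injective complexes.
-/

set_option autoImplicit false

universe v u v' u'

open CategoryTheory CategoryTheory.Limits HomologicalComplex CochainComplex CochainComplex.HomComplex ZeroObject

namespace Groth.Agent.KInjLib

variable {A : Type u} [Category.{v} A] [Abelian A]

/-- A product of K-injective complexes is K-injective. -/
theorem isKInjective_pi {T : Type*} (I : T → CochainComplex A ℤ) [HasProduct I]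
    (h : ∀ t, (I t).IsKInjective) : (∏ᶜ I).IsKInjective := by
  refine ⟨fun {K} f hK => ?_⟩
  have hs : ∀ t, ∃ s : mappingCone (𝟙 K) ⟶ I t, mappingCone.inr (𝟙 K) ≫ s = f ≫ Pi.π I t := fun t => by
    obtain ⟨z, hz⟩ := Cochain.equivHomotopy _ _ ((h t).nonempty_homotopy_zero (f ≫ Pi.π I t) hK).some
    exact ⟨mappingCone.desc (𝟙 K) z (f ≫ Pi.π I t) (by simp [hz]), mappingCone.inr_desc _ _ _ _⟩
  choose s hs using hs
  have hf : mappingCone.inr (𝟙 K) ≫ Pi.lift s = f := Pi.hom_ext _ _ fun t => by
    rw [Category.assoc, Pi.lift_π, hs]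
  exact ⟨(Homotopy.ofEq (by simp [hf])).trans
    ((((mappingCone.homotopyToZeroOfId K).compLeft (mappingCone.inr (𝟙 K))).compRight (Pi.lift s)).trans
      (Homotopy.ofEq (by simp)))⟩

theorem acyclic_map {B : Type u'} [Category.{v'} B] [Abelian B] (w : B ⥤ A) [w.Additive]
    [PreservesFiniteLimits w] [PreservesFiniteColimits w] {K : CochainComplex B ℤ} (hK : K.Acyclic) :
    ((w.mapHomologicalComplex (ComplexShape.up ℤ)).obj K).Acyclic := fun n => by
  have h := (K.exactAt_iff' (n - 1) n (n + 1) (by simp) (by simp)).1 (hK n)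
  exact (((w.mapHomologicalComplex (ComplexShape.up ℤ)).obj K).exactAt_iff' (n - 1) n (n + 1)
    (by simp) (by simp)).2 (h.map w)

/-- A right adjoint of an exact functor preserves K-injective complexes. -/
theorem isKInjective_of_adj {B : Type u'} [Category.{v'} B] [Abelian B] (u : A ⥤ B) (w : B ⥤ A)
    (adj : w ⊣ u) [u.Additive] [w.Additive] [PreservesFiniteLimits w] [PreservesFiniteColimits w]
    (I : CochainComplex A ℤ) [I.IsKInjective] :
    CochainComplex.IsKInjective ((u.mapHomologicalComplex (ComplexShape.up ℤ)).obj I) := by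
  refine ⟨fun {K} f hK => ?_⟩
  let g : (w.mapHomologicalComplex (ComplexShape.up ℤ)).obj K ⟶ I :=
    { f := fun n => (adj.homEquiv _ _).symm (f.f n)
      comm' := fun i j _ => by
        change (adj.homEquiv _ _).symm (f.f i) ≫ I.d i j = w.map (K.d i j) ≫ (adj.homEquiv _ _).symm (f.f j)
        rw [← adj.homEquiv_naturality_right_symm, ← adj.homEquiv_naturality_left_symm]
        exact congrArg _ (f.comm i j) }
  let η : K ⟶ (u.mapHomologicalComplex (ComplexShape.up ℤ)).obj
      ((w.mapHomologicalComplex (ComplexShape.up ℤ)).obj K) :=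
    { f := fun n => adj.unit.app (K.X n)
      comm' := fun i j _ => (adj.unit.naturality (K.d i j)).symm }
  have hg : η ≫ (u.mapHomologicalComplex (ComplexShape.up ℤ)).map g = f :=
    HomologicalComplex.hom_ext _ _ fun n =>
      (adj.homEquiv_unit (K.X n) (I.X n) _).symm.trans (Equiv.apply_symm_apply _ _)
  obtain ⟨H⟩ := IsKInjective.nonempty_homotopy_zero g (acyclic_map w hK)
  exact ⟨(Homotopy.ofEq hg.symm).trans (((u.mapHomotopy H).compLeft η).trans
    (Homotopy.ofEq (by simp)))⟩

/-- K-injective complexes with injective terms extend along monomorphisms with acyclic cokernel. -/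
theorem extends_of_isKInjective (I : CochainComplex A ℤ) [I.IsKInjective]
    (hI : ∀ n, Injective (I.X n)) : Extends I := by
  intro X B i _ hi t
  have := hI
  have sq : CommSq t i (0 : I ⟶ 0) 0 := ⟨by simp⟩
  have hK : IsLimit (KernelFork.ofι (𝟙 I) (show 𝟙 I ≫ (0 : I ⟶ (0 : CochainComplex A ℤ)) = 0 by simp)) :=
    KernelFork.IsLimit.ofId _ rfl
  have hsq : ∀ n, (sq.map (HomologicalComplex.eval _ _ n)).LiftStruct := fun n =>
    { l := letI := hI n; (Injective.factorThru (J := I.X n) (t.f n) (i.f n) : B.X n ⟶ I.X n)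
      fac_left := letI := hI n; Injective.comp_factorThru (J := I.X n) (t.f n) (i.f n)
      fac_right := ((HomologicalComplex.eval A _ n).map_isZero (Limits.isZero_zero _)).eq_of_tgt _ _ }
  obtain ⟨α, hα⟩ := IsKInjective.eq_δ_of_cocycle
    (Lifting.cocycle₁ sq hsq (hπ := cokernel.condition i) (cokernelIsCokernel i) hK) hi 0 (zero_add 1)
  have := Lifting.hasLift sq hsq (hπ := cokernel.condition i) (cokernelIsCokernel i) hK α hα
  exact ⟨sq.lift, sq.fac_left⟩

end Groth.Agent.KInjLib
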