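import Groth.Agent.Lib.KInj.Derived
import Mathlib.CategoryTheory.Localization.DerivabilityStructure.Constructor
import Mathlib.CategoryTheory.Localization.DerivabilityStructure.Derives
import Mathlib.CategoryTheory.Localization.DerivabilityStructure.OfLocalizedEquivalences

/-!
Right derived functors on the homotopy category when there are enough K-injective complexes.
-/

set_option autoImplicit false

universe w v u v' u'

open CategoryTheory CategoryTheory.Limits

namespace Groth.Agent.KInjLib

variable (A : Type u) [Category.{v} A] [Abelian A]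

/-- The K-injective objects of the homotopy category. -/
abbrev kInjObj : ObjectProperty (HomotopyCategory A (ComplexShape.up ℤ)) :=
  (HomotopyCategory.subcategoryAcyclic A).rightOrthogonal

/-- The inclusion of K-injective objects, as a localizer morphism. -/
def kInjLocalizer :
    LocalizerMorphism (MorphismProperty.isomorphisms (kInjObj A).FullSubcategory)
      (HomotopyCategory.quasiIso A (ComplexShape.up ℤ)) where
  functor := (kInjObj A).ι
  map X Y f (hf : IsIso f) := by
    change HomotopyCategory.quasiIso A _ ((kInjObj A).ι.map f)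
    rw [HomotopyCategory.mem_quasiIso_iff]
    intro n
    infer_instance

/-- Every complex has a quasi-isomorphism to a K-injective complex. -/
def EnoughKInj : Prop :=
  ∀ K : CochainComplex A ℤ, ∃ (I : CochainComplex A ℤ) (f : K ⟶ I), I.IsKInjective ∧ _root_.QuasiIso f

variable {A}

theorem enoughKInj_of_grothendieck [IsGrothendieckAbelian.{v} A] : EnoughKInj A := fun K => by
  obtain ⟨I, f, hI, hf, -, -⟩ := exists_resolution K
  exact ⟨I, f, hI, hf⟩

theorem exists_rightResolution (h : EnoughKInj A) (X : HomotopyCategory A (ComplexShape.up ℤ)) :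
    ∃ (I : (kInjObj A).FullSubcategory) (w : X ⟶ I.obj),
      HomotopyCategory.quasiIso A (ComplexShape.up ℤ) w := by
  obtain ⟨K, rfl⟩ := HomotopyCategory.quotient_obj_surjective X
  obtain ⟨I, f, hI, hf⟩ := h K
  exact ⟨⟨_, CochainComplex.IsKInjective.rightOrthogonal I⟩, (HomotopyCategory.quotient A _).map f,
    (HomotopyCategory.quotient_map_mem_quasiIso_iff f).2 hf⟩

variable [HasDerivedCategory.{w} A]

theorem bijective_Qh_map (X : HomotopyCategory A (ComplexShape.up ℤ))
    (I : (kInjObj A).FullSubcategory) :
    Function.Bijective (DerivedCategory.Qh.map : (X ⟶ I.obj) → _) :=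
  I.property.map_bijective_of_isTriangulated _ _

theorem isLocalizedEquivalence (h : EnoughKInj A) : (kInjLocalizer A).IsLocalizedEquivalence := by
  let G := (kInjObj A).ι ⋙ DerivedCategory.Qh
  have : G.Faithful := ⟨fun {X Y} f g e => (kInjObj A).ι.map_injective ((bijective_Qh_map _ Y).1 e)⟩
  have : G.Full := ⟨fun {X Y} g => by
    obtain ⟨f, hf⟩ := (bijective_Qh_map _ Y).2 g
    exact ⟨ObjectProperty.homMk f, hf⟩⟩
  have : G.EssSurj := ⟨fun Y => by
    obtain ⟨I, w, hw⟩ := exists_rightResolution h (DerivedCategory.Qh.objPreimage Y)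
    have := Localization.inverts DerivedCategory.Qh _ w hw
    exact ⟨I, ⟨(asIso (DerivedCategory.Qh.map w)).symm ≪≫ DerivedCategory.Qh.objObjPreimageIso Y⟩⟩⟩
  have : G.IsEquivalence := {}
  letI : CatCommSq (kInjLocalizer A).functor (𝟭 (kInjObj A).FullSubcategory) DerivedCategory.Qh G :=
    ⟨(Functor.leftUnitor _).symm⟩
  exact LocalizerMorphism.IsLocalizedEquivalence.mk' (kInjLocalizer A)
    (L₁ := 𝟭 _) (L₂ := DerivedCategory.Qh) G

theorem isRightDerivabilityStructure (h : EnoughKInj A) :
    (kInjLocalizer A).IsRightDerivabilityStructure := by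
  have := isLocalizedEquivalence h
  haveI : ∀ X, IsConnected ((kInjLocalizer A).RightResolution X) := fun X => by
    haveI : Nonempty ((kInjLocalizer A).RightResolution X) := by
      obtain ⟨I, w, hw⟩ := exists_rightResolution h X
      exact ⟨LocalizerMorphism.RightResolution.mk (X₁ := I) w hw⟩
    refine zigzag_isConnected fun R R' => Zigzag.of_hom (?_ : R ⟶ R')
    have : IsIso (DerivedCategory.Qh.map R.w) := Localization.inverts DerivedCategory.Qh (HomotopyCategory.quasiIso A (ComplexShape.up ℤ)) R.w R.hw
    let e := @asIso _ _ _ _ (DerivedCategory.Qh.map R.w) this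
    let g := ((bijective_Qh_map R.X₁.obj R'.X₁).2 (e.inv ≫ DerivedCategory.Qh.map R'.w))
    refine { f := ObjectProperty.homMk g.choose, comm := ?_ }
    refine (bijective_Qh_map _ R'.X₁).1 ?_
    have hg := g.choose_spec
    change DerivedCategory.Qh.map (R.w ≫ g.choose) = _
    rw [Functor.map_comp]
    exact (congrArg (DerivedCategory.Qh.map R.w ≫ ·) hg).trans (Iso.hom_inv_id_assoc e _)
  haveI : (kInjLocalizer A).arrow.HasRightResolutions := fun f => by
    obtain ⟨I, w, hw⟩ := exists_rightResolution h f.left
    obtain ⟨I', w', hw'⟩ := exists_rightResolution h f.right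
    have := Localization.inverts DerivedCategory.Qh _ w hw
    obtain ⟨g, hg⟩ := (bijective_Qh_map I.obj I').2
      (inv (DerivedCategory.Qh.map w) ≫ DerivedCategory.Qh.map (f.hom ≫ w'))
    refine ⟨{ X₁ := Arrow.mk (ObjectProperty.homMk g : I ⟶ I')
              w := Arrow.homMk w w' ?_
              hw := ⟨hw, hw'⟩ }⟩
    refine (bijective_Qh_map _ I').1 ?_
    change DerivedCategory.Qh.map (w ≫ g) = _
    rw [Functor.map_comp, hg]
    exact IsIso.hom_inv_id_assoc _ _
  exact LocalizerMorphism.IsRightDerivabilityStructure.mk' _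

theorem derives {H : Type u'} [Category.{v'} H] (F : HomotopyCategory A (ComplexShape.up ℤ) ⥤ H) :
    (kInjLocalizer A).Derives F := fun X Y f (hf : IsIso f) => inferInstance

theorem hasPointwiseRightDerivedFunctor (h : EnoughKInj A) {H : Type u'} [Category.{v'} H]
    (F : HomotopyCategory A (ComplexShape.up ℤ) ⥤ H) :
    F.HasPointwiseRightDerivedFunctor (HomotopyCategory.quasiIso A (ComplexShape.up ℤ)) :=
  haveI := isRightDerivabilityStructure h
  (derives F).hasPointwiseRightDerivedFunctor

theorem hasRightDerivedFunctor (h : EnoughKInj A) {H : Type u'} [Category.{v'} H]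
    (F : HomotopyCategory A (ComplexShape.up ℤ) ⥤ H) :
    F.HasRightDerivedFunctor (HomotopyCategory.quasiIso A (ComplexShape.up ℤ)) :=
  haveI := hasPointwiseRightDerivedFunctor h F
  inferInstance

theorem isIso_app_of_isKInjective (h : EnoughKInj A) {H : Type u'} [Category.{v'} H]
    {F : HomotopyCategory A (ComplexShape.up ℤ) ⥤ H} {RF : DerivedCategory A ⥤ H}
    (α : F ⟶ DerivedCategory.Qh ⋙ RF)
    [RF.IsRightDerivedFunctor α (HomotopyCategory.quasiIso A (ComplexShape.up ℤ))]
    (I : CochainComplex A ℤ) [I.IsKInjective] :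
    IsIso (α.app ((HomotopyCategory.quotient A (ComplexShape.up ℤ)).obj I)) :=
  haveI := isRightDerivabilityStructure h
  (derives F).isIso_of_isRightDerivedFunctor α ⟨_, CochainComplex.IsKInjective.rightOrthogonal I⟩

end Groth.Agent.KInjLib
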