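import Groth.Agent.Lib.KInj.Criterion
import Groth.Agent.Lib.KInj.RightDerived
import Mathlib.Algebra.Homology.DerivedCategory.ExactFunctor

/-!
Deriving classes of K-injective complexes and adjunctions induced on complexes.
-/

set_option autoImplicit false

universe w w' v u v' u'

open CategoryTheory CategoryTheory.Limits

namespace Groth.Agent.KInjLib

section

variable {A : Type u} [Category.{v} A] [Preadditive A] {B : Type u'} [Category.{v'} B]
  [Preadditive B] {F : A ⥤ B} {G : B ⥤ A} [F.Additive] [G.Additive] (adj : F ⊣ G)
  {ι : Type*} (c : ComplexShape ι)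

/-- The adjunction induced on complexes. -/
noncomputable def adjComplexes : F.mapHomologicalComplex c ⊣ G.mapHomologicalComplex c :=
  Adjunction.mkOfUnitCounit
    { unit := { app := fun K => { f := fun i => adj.unit.app (K.X i)
                                  comm' := fun i j _ => (adj.unit.naturality (K.d i j)).symm }
                naturality := fun K L f => by ext i; exact adj.unit.naturality (f.f i) }
      counit := { app := fun K => { f := fun i => adj.counit.app (K.X i)
                                    comm' := fun i j _ => (adj.counit.naturality (K.d i j)).symm }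
                  naturality := fun K L f => by ext i; exact adj.counit.naturality (f.f i) }
      left_triangle := by ext K i; simp; exact adj.left_triangle_components (K.X i)
      right_triangle := by ext K i; simp; exact adj.right_triangle_components (K.X i) }

@[simp] theorem adjComplexes_counit_app_f (K : HomologicalComplex B c) (i : ι) :
    ((adjComplexes adj c).counit.app K).f i = adj.counit.app (K.X i) := rfl

/-- The adjunction induced on homotopy categories. -/
noncomputable def adjHomotopy : F.mapHomotopyCategory c ⊣ G.mapHomotopyCategory c :=
  Adjunction.mkOfUnitCounit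
    { unit :=
        { app := fun K => (HomotopyCategory.quotient A c).map ((adjComplexes adj c).unit.app K.as)
          naturality := by
            rintro ⟨K⟩ ⟨L⟩ ⟨f : K ⟶ L⟩
            exact congrArg (HomotopyCategory.quotient A c).map
              ((adjComplexes adj c).unit.naturality f) }
      counit :=
        { app := fun K => (HomotopyCategory.quotient B c).map ((adjComplexes adj c).counit.app K.as)
          naturality := by
            rintro ⟨K⟩ ⟨L⟩ ⟨f : K ⟶ L⟩
            exact congrArg (HomotopyCategory.quotient B c).map
              ((adjComplexes adj c).counit.naturality f) }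
      left_triangle := by
        ext ⟨K⟩
        refine Eq.trans ?_ ((congrArg (HomotopyCategory.quotient B c).map
          ((adjComplexes adj c).left_triangle_components K)).trans
          ((HomotopyCategory.quotient B c).map_id _))
        refine Eq.trans ?_ ((HomotopyCategory.quotient B c).map_comp _ _).symm
        exact congrArg _ (congrArg (_ ≫ ·) (Category.id_comp _))
      right_triangle := by
        ext ⟨K⟩
        refine Eq.trans ?_ ((congrArg (HomotopyCategory.quotient A c).map
          ((adjComplexes adj c).right_triangle_components K)).trans
          ((HomotopyCategory.quotient A c).map_id _))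
        refine Eq.trans ?_ ((HomotopyCategory.quotient A c).map_comp _ _).symm
        exact congrArg _ (congrArg (_ ≫ ·) (Category.id_comp _)) }

theorem isIso_adjComplexes_counit [G.Full] [G.Faithful] (K : HomologicalComplex B c) :
    IsIso ((adjComplexes adj c).counit.app K) :=
  haveI : ∀ i, IsIso (((adjComplexes adj c).counit.app K).f i) := fun i => by
    rw [adjComplexes_counit_app_f]
    haveI : IsIso adj.counit := adj.counit_isIso_of_R_fully_faithful
    exact NatIso.isIso_app_of_isIso adj.counit _
  HomologicalComplex.Hom.isIso_of_components _

theorem isIso_adjHomotopy_counit [G.Full] [G.Faithful] (K : HomotopyCategory B c) :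
    IsIso ((adjHomotopy adj c).counit.app K) := by
  have := isIso_adjComplexes_counit adj c K.as
  change IsIso ((HomotopyCategory.quotient B c).map ((adjComplexes adj c).counit.app K.as))
  infer_instance

end

variable {A : Type u} [Category.{v} A] [Abelian A] [HasDerivedCategory.{w} A]

theorem derivingClass_Q (h : EnoughKInj A) :
    DerivingClass (DerivedCategory.Q (C := A)) CochainComplex.IsKInjective where
  res K := by
    obtain ⟨I, f, hI, hf⟩ := h K
    exact ⟨I, hI, f, inferInstance⟩
  surj I J hJ f := exists_map_eq f

theorem derivingClass_Qh (h : EnoughKInj A) :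
    DerivingClass (DerivedCategory.Qh (C := A)) (kInjObj A) where
  res X := by
    obtain ⟨I, w, hw⟩ := exists_rightResolution h X
    exact ⟨I.obj, I.property, w, Localization.inverts DerivedCategory.Qh _ w hw⟩
  surj X J hJ := (bijective_Qh_map X ⟨J, hJ⟩).surjective

theorem isIso_unit_of_kInjObj (h : EnoughKInj A) {H : Type u'} [Category.{v'} H]
    {F : HomotopyCategory A (ComplexShape.up ℤ) ⥤ H} {RF : DerivedCategory A ⥤ H}
    (α : F ⟶ DerivedCategory.Qh ⋙ RF)
    [RF.IsRightDerivedFunctor α (HomotopyCategory.quasiIso A (ComplexShape.up ℤ))]
    (X : HomotopyCategory A (ComplexShape.up ℤ)) (hX : kInjObj A X) : IsIso (α.app X) :=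
  haveI := isRightDerivabilityStructure h
  (derives F).isIso_of_isRightDerivedFunctor α ⟨X, hX⟩

variable {B : Type u'} [Category.{v'} B] [Abelian B] [HasDerivedCategory.{w'} B]

theorem isIso_app_Q_of_isKInjective (h : EnoughKInj A) (G : A ⥤ B) [G.Additive]
    {RG : DerivedCategory A ⥤ DerivedCategory B}
    (α : G.mapHomologicalComplex (ComplexShape.up ℤ) ⋙ DerivedCategory.Q ⟶ DerivedCategory.Q ⋙ RG)
    [RG.IsRightDerivedFunctor α (HomologicalComplex.quasiIso A (ComplexShape.up ℤ))]
    (I : CochainComplex A ℤ) (hI : I.IsKInjective) : IsIso (α.app I) := by
  let Fh := G.mapHomotopyCategory (ComplexShape.up ℤ) ⋙ DerivedCategory.Qh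
  haveI := hasRightDerivedFunctor h Fh
  let RF₀ := Fh.totalRightDerived DerivedCategory.Qh (HomotopyCategory.quasiIso A (ComplexShape.up ℤ))
  let u := Fh.totalRightDerivedUnit DerivedCategory.Qh (HomotopyCategory.quasiIso A (ComplexShape.up ℤ))
  let α₀ : G.mapHomologicalComplex (ComplexShape.up ℤ) ⋙ DerivedCategory.Q ⟶
      DerivedCategory.Q ⋙ RF₀ :=
    Functor.whiskerLeft _ (DerivedCategory.quotientCompQhIso B).inv ≫ (Functor.associator _ _ _).inv ≫
      Functor.whiskerRight (G.mapHomotopyCategoryFactors _).inv _ ≫
      Functor.whiskerLeft (HomotopyCategory.quotient A _) u ≫ (Functor.associator _ _ _).inv ≫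
      Functor.whiskerRight (DerivedCategory.quotientCompQhIso A).hom RF₀
  refine isIso_app_of_exists (derivingClass_Q h)
    (W := HomologicalComplex.quasiIso A (ComplexShape.up ℤ)) α₀ (fun J hJ => ?_) α I hI
  have h1 : IsIso (u.app ((HomotopyCategory.quotient A _).obj J)) :=
    isIso_app_of_isKInjective h u J
  simp only [α₀, NatTrans.comp_app, Functor.whiskerLeft_app, Functor.whiskerRight_app,
    Functor.associator_inv_app]
  infer_instance

end Groth.Agent.KInjLib
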