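import Groth.Agent.Lib.KInj.Resolution
import Groth.Agent.Lib.KInj.Basic
import Mathlib.Algebra.Homology.DerivedCategory.KInjective

/-!
Morphisms into K-injective complexes in the derived category; products and coproducts.
-/

set_option autoImplicit false

universe w v u t

open CategoryTheory CategoryTheory.Limits HomologicalComplex DerivedCategory CochainComplex.HomComplex

namespace Groth.Agent.KInjLib

variable {A : Type u} [Category.{v} A] [Abelian A] [HasDerivedCategory.{w} A]

theorem exists_map_eq {K I : CochainComplex A ℤ} [I.IsKInjective] (f : Q.obj K ⟶ Q.obj I) :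
    ∃ φ : K ⟶ I, Q.map φ = f := by
  obtain ⟨g, hg⟩ := (CochainComplex.IsKInjective.Qh_map_bijective (C := A)
    ((HomotopyCategory.quotient A (ComplexShape.up ℤ)).obj K) I).surjective
    ((quotientCompQhIso A).hom.app K ≫ f ≫ (quotientCompQhIso A).inv.app I)
  obtain ⟨φ, rfl⟩ := (HomotopyCategory.quotient A (ComplexShape.up ℤ)).map_surjective g
  refine ⟨φ, ?_⟩
  rw [← cancel_epi ((quotientCompQhIso A).hom.app K), ← (quotientCompQhIso A).hom.naturality φ]
  refine Eq.trans (congrArg (· ≫ (quotientCompQhIso A).hom.app I)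
    (show (HomotopyCategory.quotient A (ComplexShape.up ℤ) ⋙ Qh).map φ = _ from hg)) ?_
  simp

theorem map_eq_iff {K I : CochainComplex A ℤ} [I.IsKInjective] (φ ψ : K ⟶ I) :
    Q.map φ = Q.map ψ ↔ Nonempty (Homotopy φ ψ) := by
  have h : Q.map φ = Q.map ψ ↔ (HomotopyCategory.quotient A (ComplexShape.up ℤ)).map φ =
      (HomotopyCategory.quotient A (ComplexShape.up ℤ)).map ψ := by
    rw [← cancel_epi ((quotientCompQhIso A).hom.app K), ← (quotientCompQhIso A).hom.naturality φ,
      ← (quotientCompQhIso A).hom.naturality ψ, cancel_mono]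
    simp only [Functor.comp_map]
    exact (CochainComplex.IsKInjective.Qh_map_bijective
      ((HomotopyCategory.quotient A (ComplexShape.up ℤ)).obj K) I).injective.eq_iff
  rw [h]
  exact ⟨fun e => ⟨HomotopyCategory.homotopyOfEq _ _ e⟩,
    fun ⟨H⟩ => HomotopyCategory.eq_of_homotopy _ _ H⟩

theorem exists_iso_kInjective [IsGrothendieckAbelian.{v} A] (X : DerivedCategory A) :
    ∃ (I : CochainComplex A ℤ) (_ : I.IsKInjective), Nonempty (X ≅ Q.obj I) := by
  obtain ⟨I, f, hI, hf, -, -⟩ := exists_resolution (Q.objPreimage X)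
  exact ⟨I, hI, ⟨(Q.objObjPreimageIso X).symm ≪≫ asIso (Q.map f)⟩⟩

/-- Null homotopies on the summands give a null homotopy on a coproduct. -/
theorem homotopy_of_sigma {T : Type t} [HasCoproductsOfShape T A] (X : T → CochainComplex A ℤ)
    {I : CochainComplex A ℤ} (φ ψ : ∐ X ⟶ I)
    (h : ∀ a, Nonempty (Homotopy (Sigma.ι X a ≫ φ) (Sigma.ι X a ≫ ψ))) :
    Nonempty (Homotopy φ ψ) := by
  have hc : ∀ n, IsColimit (Cofan.mk ((∐ X).X n) fun a => (Sigma.ι X a).f n) := fun n =>
    isColimitCofanMkObjOfIsColimit (eval A (ComplexShape.up ℤ) n) X (Sigma.ι X)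
      (coproductIsCoproduct X)
  let z := fun a => (Cochain.equivHomotopy _ _ (h a).some)
  refine ⟨(Cochain.equivHomotopy φ ψ).symm ⟨Cochain.mk fun p q hpq =>
    Cofan.IsColimit.desc (hc p) fun a => (z a).1.v p q hpq, ?_⟩⟩
  ext p
  refine Cofan.IsColimit.hom_ext (hc p) _ _ fun a => ?_
  have e := Cochain.congr_v (z a).2 p p (add_zero p)
  simp only [Cochain.ofHom_v, comp_f, Cochain.add_v, δ_neg_one_cochain,
    Homotopy.nullHomotopicMap'_f (c := ComplexShape.up ℤ) (show (ComplexShape.up ℤ).Rel (p - 1) p by simp)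
      (show (ComplexShape.up ℤ).Rel p (p + 1) by simp)] at e ⊢
  have h1 := Cofan.IsColimit.fac (hc p) (fun a => (z a).1.v p (p - 1) (by omega)) a
  have h2 := Cofan.IsColimit.fac (hc (p + 1)) (fun a => (z a).1.v (p + 1) p (by omega)) a
  dsimp at h1 h2
  simp [e, reassoc_of% h1, h2, Hom.comm_assoc]

section Coproducts

variable [IsGrothendieckAbelian.{v} A] {T : Type v} (X : T → CochainComplex A ℤ)

/-- The coproduct of complexes is a coproduct in the derived category. -/
noncomputable def isColimitSigma :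
    IsColimit (Cofan.mk (Q.obj (∐ X)) fun a => Q.map (Sigma.ι X a)) := by
  have key : ∀ (Z : DerivedCategory A) (g : ∀ a, Q.obj (X a) ⟶ Z),
      ∃! l : Q.obj (∐ X) ⟶ Z, ∀ a, Q.map (Sigma.ι X a) ≫ l = g a := by
    intro Z g
    obtain ⟨I, hI, ⟨e⟩⟩ := exists_iso_kInjective Z
    choose φ hφ using fun a => exists_map_eq (g a ≫ e.hom)
    refine ⟨Q.map (Sigma.desc φ) ≫ e.inv, fun a => ?_, fun l hl => ?_⟩
    · rw [← Q.map_comp_assoc, Sigma.ι_desc, hφ, Category.assoc, e.hom_inv_id, Category.comp_id]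
    · obtain ⟨ψ, hψ⟩ := exists_map_eq (l ≫ e.hom)
      rw [← cancel_mono e.hom, ← hψ, Category.assoc, e.inv_hom_id, Category.comp_id, map_eq_iff]
      refine homotopy_of_sigma X _ _ fun a => (map_eq_iff _ _).1 ?_
      rw [Sigma.ι_desc, hφ, Q.map_comp, hψ, ← Category.assoc, hl]
  exact mkCofanColimit _ (fun s => (key s.pt s.inj).exists.choose)
    (fun s => (key s.pt s.inj).exists.choose_spec)
    fun s m hm => (key s.pt s.inj).unique hm (key s.pt s.inj).exists.choose_spec

theorem hasCoproducts_derivedCategory : HasCoproducts.{v} (DerivedCategory A) := fun T =>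
  ⟨fun F => by
    let Y : T → CochainComplex A ℤ := fun a => Q.objPreimage (F.obj ⟨a⟩)
    haveI : HasColimit (Discrete.functor fun a => Q.obj (Y a)) := ⟨⟨_, isColimitSigma Y⟩⟩
    exact hasColimit_of_iso (F := Discrete.functor fun a => Q.obj (Y a))
      (Discrete.natIso fun a => (Q.objObjPreimageIso (F.obj a)).symm)⟩

end Coproducts

/-- A product of K-injective complexes is a product in the derived category. -/
noncomputable def isLimitPi {T : Type t} (I : T → CochainComplex A ℤ) [HasProduct I]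
    (hI : ∀ a, (I a).IsKInjective) :
    IsLimit (Fan.mk (Q.obj (∏ᶜ I)) fun a => Q.map (Pi.π I a)) := by
  haveI : (∏ᶜ I).IsKInjective := isKInjective_pi I hI
  have := hI
  have key : ∀ (Z : DerivedCategory A) (g : ∀ a, Z ⟶ Q.obj (I a)),
      ∃! l : Z ⟶ Q.obj (∏ᶜ I), ∀ a, l ≫ Q.map (Pi.π I a) = g a := by
    intro Z g
    let K := Q.objPreimage Z
    let e := Q.objObjPreimageIso Z
    choose φ hφ using fun a => exists_map_eq (e.hom ≫ g a)
    refine ⟨e.inv ≫ Q.map (Pi.lift φ), fun a => ?_, fun l hl => ?_⟩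
    · rw [Category.assoc, ← Q.map_comp, Pi.lift_π, hφ, e.inv_hom_id_assoc]
    · obtain ⟨ψ, hψ⟩ := exists_map_eq (e.hom ≫ l)
      rw [← cancel_epi e.hom, ← hψ, e.hom_inv_id_assoc, map_eq_iff]
      have hh : ∀ a, Nonempty (Homotopy (ψ ≫ Pi.π I a) (Pi.lift φ ≫ Pi.π I a)) := fun a =>
        (map_eq_iff _ _).1 (by rw [Pi.lift_π, hφ, Q.map_comp, hψ, Category.assoc, hl])
      have hs : ∀ a, ∃ s : CochainComplex.mappingCone (𝟙 K) ⟶ I a,
          CochainComplex.mappingCone.inr (𝟙 K) ≫ s = (ψ - Pi.lift φ) ≫ Pi.π I a := fun a => by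
        obtain ⟨z, hz⟩ := Cochain.equivHomotopy _ _ (hh a).some
        exact ⟨CochainComplex.mappingCone.desc (𝟙 K) z ((ψ - Pi.lift φ) ≫ Pi.π I a)
          (by simp [hz, Preadditive.sub_comp]), CochainComplex.mappingCone.inr_desc _ _ _ _⟩
      choose s hs using hs
      have hf : CochainComplex.mappingCone.inr (𝟙 K) ≫ Pi.lift s = ψ - Pi.lift φ :=
        Pi.hom_ext _ _ fun a => by rw [Category.assoc, Pi.lift_π, hs]
      exact ⟨Homotopy.equivSubZero.symm ((Homotopy.ofEq (by simp [hf])).trans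
        ((((CochainComplex.mappingCone.homotopyToZeroOfId K).compLeft
          (CochainComplex.mappingCone.inr (𝟙 K))).compRight (Pi.lift s)).trans
            (Homotopy.ofEq (by simp))))⟩
  exact mkFanLimit _ (fun s => (key s.pt s.proj).exists.choose)
    (fun s => (key s.pt s.proj).exists.choose_spec)
    fun s m hm => (key s.pt s.proj).unique hm (key s.pt s.proj).exists.choose_spec

theorem hasProduct_derivedCategory {T : Type t} (X : T → DerivedCategory A)
    (I : T → CochainComplex A ℤ) [HasProduct I] (hI : ∀ a, (I a).IsKInjective)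
    (e : ∀ a, X a ≅ Q.obj (I a)) : HasProduct X := by
  haveI : HasLimit (Discrete.functor fun a => Q.obj (I a)) := ⟨⟨_, isLimitPi I hI⟩⟩
  exact hasLimit_of_iso (F := Discrete.functor fun a => Q.obj (I a))
    (Discrete.natIso fun a => (e a.as).symm)

theorem hasProducts_derivedCategory [IsGrothendieckAbelian.{v} A] :
    HasProducts.{v} (DerivedCategory A) := fun T =>
  ⟨fun F => by
    choose I hI he using fun a => exists_iso_kInjective (F.obj ⟨a⟩)
    haveI : HasProduct fun a => F.obj ⟨a⟩ :=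
      hasProduct_derivedCategory _ I hI fun a => (he a).some
    exact hasLimit_of_iso (F := Discrete.functor fun a => F.obj ⟨a⟩) (Discrete.natIso fun _ => Iso.refl _)⟩

end Groth.Agent.KInjLib
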