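import Mathlib.CategoryTheory.Abelian.GrothendieckCategory.Monomorphisms
import Mathlib.CategoryTheory.Limits.Constructions.Filtered

/-!
In a Grothendieck abelian category a map into a coproduct is determined by its projections.
-/

set_option autoImplicit false

universe v w u

open CategoryTheory CategoryTheory.Limits CategoryTheory.Limits.CoproductsFromFiniteFiltered

namespace Groth.Agent.KInjLib

variable {C : Type u} [Category.{w} C] [Abelian C] [IsGrothendieckAbelian.{v} C] {T : Type v}
  (N : T → C)

open Classical in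
/-- The projection from a coproduct onto one summand. -/
noncomputable def sigmaProj (t : T) : ∐ N ⟶ N t :=
  Sigma.desc fun s => if h : s = t then eqToHom (congrArg N h) else 0

theorem ι_sigmaProj_self (t : T) : Sigma.ι N t ≫ sigmaProj N t = 𝟙 _ := by
  simp [sigmaProj]

theorem ι_sigmaProj_of_ne {s t : T} (h : s ≠ t) : Sigma.ι N s ≫ sigmaProj N t = 0 := by
  simp [sigmaProj, h]

/-- The canonical map from a coproduct to a product is a monomorphism. -/
theorem mono_sigmaToPi : Mono (Pi.lift fun t => sigmaProj N t) := by
  classical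
  let α : liftToFinsetObj (Discrete.functor N) ⟶ (Functor.const _).obj (∏ᶜ N) :=
    { app := fun s => (finiteSubcoproductsCocone N).ι.app s ≫ Pi.lift fun t => sigmaProj N t
      naturality := fun s s' h => by
        rw [← Category.assoc, (finiteSubcoproductsCocone N).w h]
        exact (Category.comp_id _).symm }
  have happ : ∀ s, Mono (α.app s) := fun s => by
    let ι' : ∀ x : s, N x.1.as ⟶ (liftToFinsetObj (Discrete.functor N)).obj s :=
      fun x => Sigma.ι (fun x : s => (Discrete.functor N).obj x.1) x
    refine SplitMono.mono ⟨∑ x : s, Pi.π N x.1.as ≫ ι' x, ?_⟩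
    refine Sigma.hom_ext _ _ fun y => ?_
    have h : ∀ x : s, ι' y ≫ α.app s ≫ Pi.π N x.1.as = Sigma.ι N y.1.as ≫ sigmaProj N x.1.as :=
      fun x => by
        simp [ι', α]
        exact colimit.ι_desc_assoc (Cofan.mk _ fun z : s => Sigma.ι N z.1.as) ⟨y⟩ _
    change ι' y ≫ α.app s ≫ (∑ x : s, Pi.π N x.1.as ≫ ι' x) = ι' y ≫ 𝟙 _
    rw [Preadditive.comp_sum, Preadditive.comp_sum, Finset.sum_eq_single y]
    · rw [← Category.assoc (α.app s), ← Category.assoc, h, ι_sigmaProj_self, Category.comp_id]
      exact Category.id_comp _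
    · intro x _ hx
      rw [← Category.assoc (α.app s), ← Category.assoc, h, ι_sigmaProj_of_ne N, zero_comp]
      exact fun he => hx (Subtype.ext (Discrete.ext he.symm))
    · simp
  have := NatTrans.mono_of_mono_app α
  exact colim.map_mono' α (isColimitFiniteSubproductsCocone N)
    (isColimitConstCocone _ (∏ᶜ N)) _ fun s => by
    simp [α]
    exact (congrArg (_ ≫ ·) (Category.comp_id _)).symm

theorem eq_zero_of_sigmaProj {X : C} (z : X ⟶ ∐ N) (h : ∀ t, z ≫ sigmaProj N t = 0) : z = 0 := by
  have := mono_sigmaToPi N
  rw [← cancel_mono (Pi.lift fun t => sigmaProj N t), zero_comp]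
  exact Pi.hom_ext _ _ fun t => by rw [Category.assoc, Pi.lift_π, h, zero_comp]

end Groth.Agent.KInjLib
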