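import Groth.Agent.Lib.KInj.Extend
import Mathlib.CategoryTheory.SmallObject.Basic

/-!
Functorial K-injective resolutions with injective terms in a Grothendieck abelian category.
-/

set_option autoImplicit false

universe v u

open CategoryTheory CategoryTheory.Limits HomologicalComplex ZeroObject Opposite

namespace Groth.Agent.KInjLib

variable {A : Type u} [Category.{v} A] [Abelian A] [IsGrothendieckAbelian.{v} A]

instance : MorphismProperty.HasSmallObjectArgument.{v} (generators A) := by
  obtain ⟨κ, hκ', hκ⟩ := HasCardinalLT.exists_regular_cardinal_forall.{v}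
    (fun x : GenIdx A => Subobject (cokernel x.1.arrow))
  have : Fact κ.IsRegular := ⟨hκ'⟩
  have : Nonempty κ.ord.ToType := by simpa using hκ'.ne_zero
  have := WellFoundedLT.toOrderBot κ.ord.ToType
  exact ⟨κ, inferInstance, inferInstance,
    { preservesColimit {U V X Y} i hi f hf := by
        let hf' : (MorphismProperty.monomorphisms _).TransfiniteCompositionOfShape κ.ord.ToType f :=
          { toTransfiniteCompositionOfShape := hf.toTransfiniteCompositionOfShape
            map_mem j hj := by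
              have := (hf.attachCells j hj).pushouts_coproducts
              simp only [MorphismProperty.ofHoms_homFamily] at this
              refine (?_ : _ ≤ MorphismProperty.monomorphisms _) _ this
              simp only [MorphismProperty.pushouts_le_iff, MorphismProperty.coproducts_le_iff]
              exact generators_le_monomorphisms A }
        have (j j' : κ.ord.ToType) (φ : j ⟶ j') : Mono (hf'.F.map φ) := hf'.mem_map φ
        apply IsGrothendieckAbelian.preservesColimit_coyoneda_obj_of_mono (Y := hf'.F) (κ := κ)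
        obtain ⟨x⟩ := hi
        exact Subobject.hasCardinalLT_of_mono (hκ x) x.2.1.arrow }⟩

theorem extends_of_rlp {I Z : CochainComplex A ℤ} (p : I ⟶ Z) (hZ : IsZero Z)
    (hp : (generators A).rlp p) : Extends I :=
  extends_of_generators fun x a => by
    have := hp x.2.1.arrow (MorphismProperty.ofHoms.mk x)
    have sq : CommSq a x.2.1.arrow p 0 := ⟨hZ.eq_of_tgt _ _⟩
    exact ⟨sq.lift, sq.fac_left⟩

/-- The first term of a two-term complex. -/
noncomputable abbrev iso₀ (E : A) (n : ℤ) :
    (double (𝟙 E) (c := ComplexShape.up ℤ) (i₀ := n) (i₁ := n + 1) rfl).X n ≅ E :=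
  doubleXIso₀ (𝟙 E) (c := ComplexShape.up ℤ) (i₀ := n) (i₁ := n + 1) rfl

/-- The second term of a two-term complex. -/
noncomputable abbrev iso₁ (E : A) (n : ℤ) :
    (double (𝟙 E) (c := ComplexShape.up ℤ) (i₀ := n) (i₁ := n + 1) rfl).X (n + 1) ≅ E :=
  doubleXIso₁ (𝟙 E) (c := ComplexShape.up ℤ) (i₀ := n) (i₁ := n + 1) rfl (by omega)

/-- Morphisms to a two-term complex. -/
noncomputable def homToDouble {K : CochainComplex A ℤ} {E : A} (n : ℤ) (φ : K.X (n + 1) ⟶ E) :
    K ⟶ double (𝟙 E) (c := ComplexShape.up ℤ) (i₀ := n) (i₁ := n + 1) rfl where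
  f k :=
    if hk₀ : k = n then (K.XIsoOfEq hk₀).hom ≫ (K.d n (n + 1) ≫ φ) ≫
      (iso₀ E n).inv ≫ (XIsoOfEq _ hk₀).inv
    else if hk₁ : k = n + 1 then (K.XIsoOfEq hk₁).hom ≫ φ ≫
      (iso₁ E n).inv ≫ (XIsoOfEq _ hk₁).inv
    else 0
  comm' k₀ k₁ hk := by
    have hk' : k₀ + 1 = k₁ := hk
    by_cases h₀ : k₀ = n
    · subst h₀
      obtain rfl : k₁ = k₀ + 1 := hk'.symm
      simp [iso₀, iso₁, double_d _ _ (by omega : k₀ ≠ k₀ + 1)]
    · rw [double_d_eq_zero₀ _ _ _ _ h₀, comp_zero]
      by_cases h₁ : k₁ = n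
      · subst h₁
        simp [d_comp_d_assoc]
      · rw [dif_neg h₁, dif_neg (by omega), comp_zero]

theorem homToDouble_f₀ {K : CochainComplex A ℤ} {E : A} (n : ℤ) (φ : K.X (n + 1) ⟶ E) :
    (homToDouble n φ).f n = (K.d n (n + 1) ≫ φ) ≫ (iso₀ E n).inv := by
  simp [homToDouble]

theorem homToDouble_f₁ {K : CochainComplex A ℤ} {E : A} (n : ℤ) (φ : K.X (n + 1) ⟶ E) :
    (homToDouble n φ).f (n + 1) = φ ≫ (iso₁ E n).inv := by
  simp [homToDouble]

/-- The projection of a two-term complex onto its first term. -/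
noncomputable def doubleProj (E : A) (n : ℤ) :
    double (𝟙 E) (c := ComplexShape.up ℤ) (i₀ := n) (i₁ := n + 1) rfl ⟶
      (single A (ComplexShape.up ℤ) n).obj E :=
  mkHomFromDouble _ (by omega) (singleObjXSelf (ComplexShape.up ℤ) n E).inv 0 (by simp) (by simp)

theorem rlp_doubleProj (E : A) [Injective E] (n : ℤ) : (generators A).rlp (doubleProj E n) := by
  rintro _ _ _ ⟨x⟩
  refine ⟨fun {a b} sq => ?_⟩
  let j := x.2.1.arrow
  let α := a.f (n + 1) ≫ (iso₁ E n).hom
  let β := b.f n ≫ (singleObjXSelf (ComplexShape.up ℤ) n E).hom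
  have hα : a.f n ≫ (iso₀ E n).hom =
      (x.2.1 : CochainComplex A ℤ).d n (n + 1) ≫ α := by
    have h := a.comm n (n + 1)
    rw [double_d _ _ (by omega : n ≠ n + 1)] at h
    simp [α, ← reassoc_of% h]
  have hβ : (cokernel x.1.arrow).d (n - 1) n ≫ β = 0 := by
    have h := b.comm (n - 1) n
    rw [(isZero_single_obj_X (ComplexShape.up ℤ) n E (n - 1) (by omega)).eq_of_tgt (b.f (n - 1)) 0,
      zero_comp] at h
    simp [β, ← reassoc_of% h]
  have hsq : j.f n ≫ β = (x.2.1 : CochainComplex A ℤ).d n (n + 1) ≫ α := by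
    have h := congr($(sq.w).f n)
    rw [← hα]
    simp [j, β, doubleProj] at h ⊢
    simp [← reassoc_of% h]
  let S := ShortComplex.mk j (cokernel.π j) (cokernel.condition j)
  have hS : S.ShortExact :=
    { exact := ShortComplex.exact_of_g_is_cokernel _ (cokernelIsCokernel j) }
  have hSn := hS.map_of_exact (eval A (ComplexShape.up ℤ) n)
  haveI : Mono (j.f (n + 1)) := inferInstance
  let γ₀ := Injective.factorThru α (j.f (n + 1))
  have hγ₀ : j.f (n + 1) ≫ γ₀ = α := Injective.comp_factorThru _ _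
  let δ := β - (cokernel x.1.arrow).d n (n + 1) ≫ γ₀
  have hδ : j.f n ≫ δ = 0 := by
    simp only [δ, Preadditive.comp_sub]
    rw [hsq, Hom.comm_assoc, hγ₀, sub_self]
  haveI : Epi (S.map (eval A (ComplexShape.up ℤ) n)).g := hSn.epi_g
  let δ' : (cokernel j).X n ⟶ E := hSn.exact.desc δ hδ
  have hδ' : (cokernel.π j).f n ≫ δ' = δ := hSn.exact.g_desc δ hδ
  have hd : (cokernel j).d (n - 1) n ≫ δ' = 0 := by
    rw [← cancel_epi ((cokernel.π j).f (n - 1)), comp_zero, Hom.comm_assoc, hδ']
    simp [δ, hβ]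
  have hex : ((cokernel j).sc' (n - 1) n (n + 1)).Exact :=
    ((cokernel j).exactAt_iff' _ _ _ (by simp) (by simp)).1 (x.2.2 n)
  let γ₁ : (cokernel j).X (n + 1) ⟶ E := hex.descToInjective δ' hd
  have hγ₁ : (cokernel j).d n (n + 1) ≫ γ₁ = δ' := hex.comp_descToInjective δ' hd
  let γ := γ₀ + (cokernel.π j).f (n + 1) ≫ γ₁
  have hjγ : j.f (n + 1) ≫ γ = α := by
    simp only [γ, Preadditive.comp_add, hγ₀, ← comp_f_assoc, cokernel.condition, zero_f, zero_comp,
      add_zero]
  have hdγ : (cokernel x.1.arrow).d n (n + 1) ≫ γ = β := by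
    simp only [γ, Preadditive.comp_add]
    rw [← Hom.comm_assoc, hγ₁, hδ']
    simp [δ]
  refine CommSq.HasLift.mk' ⟨homToDouble n γ, ?_, ?_⟩
  · refine to_double_hom_ext ?_ ?_
    · rw [comp_f, homToDouble_f₀, hdγ, ← cancel_mono (iso₀ E n).hom]
      simp only [Category.assoc, Iso.inv_hom_id, Category.comp_id]
      rw [hα]
      exact hsq
    · rw [comp_f, homToDouble_f₁, ← Category.assoc]
      exact (congrArg (· ≫ _) hjγ).trans (by simp [α])
  · refine HomologicalComplex.to_single_hom_ext ?_
    rw [comp_f, homToDouble_f₀, hdγ]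
    simp [β, doubleProj]

/-- Morphisms with the left lifting property are monomorphisms with acyclic cokernel. -/
theorem mono_of_llp {M N : CochainComplex A ℤ} (i : M ⟶ N) (hi : (generators A).rlp.llp i) :
    Mono i := by
  have h : (generators A).rlp.llp ≤ MorphismProperty.monomorphisms (CochainComplex A ℤ) := by
    rw [← IsGrothendieckAbelian.llp_rlp_monomorphisms (isSeparator_separator (CochainComplex A ℤ))]
    exact MorphismProperty.antitone_llp
      (MorphismProperty.antitone_rlp (generators_le_monomorphisms A))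
  exact h i hi

theorem acyclic_cokernel_of_llp {M N : CochainComplex A ℤ} (i : M ⟶ N)
    (hi : (generators A).rlp.llp i) : (cokernel i).Acyclic := by
  refine acyclic_of_iCycles_pOpcycles fun n => ?_
  let E := Injective.under ((cokernel i).opcycles n)
  let b : cokernel i ⟶ (single A (ComplexShape.up ℤ) n).obj E :=
    mkHomToSingle ((cokernel i).pOpcycles n ≫ Injective.ι _) (by simp)
  have := hi (doubleProj E n) (rlp_doubleProj E n)
  have sq : CommSq (0 : M ⟶ _) i (doubleProj E n) (cokernel.π i ≫ b) := ⟨by simp⟩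
  let l := cokernel.desc i sq.lift sq.fac_left
  have hl : l ≫ doubleProj E n = b := by
    rw [← cancel_epi (cokernel.π i), cokernel.π_desc_assoc, sq.fac_right]
  have h0 : (cokernel i).iCycles n ≫ l.f n = 0 := by
    haveI : IsIso ((double (𝟙 E) (c := ComplexShape.up ℤ) (i₀ := n) (i₁ := n + 1) rfl).d n (n + 1)) := by
      rw [double_d _ _ (by omega : n ≠ n + 1)]
      infer_instance
    rw [← cancel_mono ((double (𝟙 E) (c := ComplexShape.up ℤ) (i₀ := n) (i₁ := n + 1) rfl).d n (n + 1)),
      Category.assoc, l.comm, iCycles_d_assoc, zero_comp, zero_comp]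
  have h1 : ((cokernel i).iCycles n ≫ l.f n) ≫ (doubleProj E n).f n = 0 := by rw [h0, zero_comp]
  rw [Category.assoc, ← comp_f, hl] at h1
  rw [← cancel_mono (Injective.ι ((cokernel i).opcycles n)), zero_comp, Category.assoc,
    ← cancel_mono (singleObjXSelf (ComplexShape.up ℤ) n E).inv, zero_comp]
  simpa [b] using h1

theorem quasiIso_of_acyclic_cokernel {M N : CochainComplex A ℤ} (i : M ⟶ N) [Mono i]
    (h : (cokernel i).Acyclic) : _root_.QuasiIso i := by
  have hS : (ShortComplex.mk i (cokernel.π i) (cokernel.condition i)).ShortExact :=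
    { exact := ShortComplex.exact_of_g_is_cokernel _ (cokernelIsCokernel i) }
  rw [quasiIso_iff]
  intro n
  rw [quasiIsoAt_iff_isIso_homologyMap]
  have hz : ∀ k, IsZero ((cokernel i).homology k) := fun k =>
    (exactAt_iff_isZero_homology _ k).1 (h k)
  haveI := (hS.homology_exact₂ n).epi_f ((hz n).eq_of_tgt _ _)
  haveI := (hS.homology_exact₁ (n - 1) n (by simp)).mono_g ((hz (n - 1)).eq_of_src _ _)
  exact isIso_of_mono_of_epi _

variable (A) in
/-- Functorial resolutions by K-injective complexes with injective terms. -/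
theorem exists_functorial_resolution :
    ∃ (N : CochainComplex A ℤ ⥤ CochainComplex A ℤ) (j : 𝟭 _ ⟶ N),
      ∀ M : CochainComplex A ℤ, Mono (j.app M) ∧ _root_.QuasiIso (j.app M) ∧
        (N.obj M).IsKInjective ∧ ∀ n, Injective ((N.obj M).X n) := by
  let d := MorphismProperty.functorialFactorizationData (generators A).rlp.llp (generators A).rlp
  let Φ : CochainComplex A ℤ ⥤ Arrow (CochainComplex A ℤ) :=
    { obj := fun M => Arrow.mk (0 : M ⟶ 0)
      map := fun {M M'} f => Arrow.homMk f (𝟙 _) ((isZero_zero _).eq_of_tgt _ _) }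
  refine ⟨Φ ⋙ d.Z, { app := fun M => d.i.app (Φ.obj M)
                     naturality := fun M M' f => d.i.naturality (Φ.map f) }, fun M => ?_⟩
  have hE : Extends (d.Z.obj (Φ.obj M)) :=
    extends_of_rlp (d.p.app (Φ.obj M)) (isZero_zero _) (d.hp _)
  haveI : Mono (d.i.app (Φ.obj M)) := mono_of_llp _ (d.hi _)
  exact ⟨mono_of_llp _ (d.hi (Φ.obj M)),
    quasiIso_of_acyclic_cokernel (d.i.app (Φ.obj M)) (acyclic_cokernel_of_llp _ (d.hi _)),
    hE.isKInjective, hE.injective⟩

theorem exists_resolution (M : CochainComplex A ℤ) :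
    ∃ (I : CochainComplex A ℤ) (f : M ⟶ I),
      I.IsKInjective ∧ _root_.QuasiIso f ∧ Mono f ∧ ∀ n, Injective (I.X n) := by
  obtain ⟨N, j, h⟩ := exists_functorial_resolution A
  obtain ⟨h1, h2, h3, h4⟩ := h M
  exact ⟨N.obj M, j.app M, h3, h2, h1, h4⟩

end Groth.Agent.KInjLib
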