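import Groth.Agent.Lib.KInj.Small
import Groth.Agent.Lib.Brown.Adjoint
import Groth.Agent.Lib.Brown.Representable

/-!
The derived category of a Grothendieck abelian category has a perfectly generating family, hence
satisfies Brown representability.
-/

set_option autoImplicit false

universe v u

open CategoryTheory CategoryTheory.Limits HomologicalComplex DerivedCategory Pretriangulated Opposite
open CategoryTheory.Pretriangulated.Opposite

namespace Groth.Agent.KInjLib

variable (A : Type u) [Category.{v} A] [Abelian A] [IsGrothendieckAbelian.{v} A]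

/-- The shapes of all small complexes. -/
def smallIdx : Type v :=
  Shrink.{v} (Σ k : ℕ, Subobject (free (A := A) (szIdx A k)))

variable {A}

/-- The complex of a shape. -/
noncomputable def smallCx (i : smallIdx A) : CochainComplex A ℤ :=
  cokernel ((equivShrink _).symm i).2.arrow

theorem isSmallCx_smallCx (i : smallIdx A) : ∃ k, IsSmallCx k (smallCx i) :=
  ⟨_, isSmallCx_cokernel _ _⟩

theorem exists_smallCx {k : ℕ} {S : CochainComplex A ℤ} (h : IsSmallCx k S) :
    ∃ i : smallIdx A, Nonempty (smallCx i ≅ S) := by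
  obtain ⟨R, ⟨e⟩⟩ := h.exists_shape
  let x : Σ k : ℕ, Subobject (free (A := A) (szIdx A k)) := ⟨k, R⟩
  let i : smallIdx A := equivShrink _ x
  have hi : (equivShrink (Σ k : ℕ, Subobject (free (A := A) (szIdx A k)))).symm i = x :=
    Equiv.symm_apply_apply _ _
  refine ⟨i, ⟨?_ ≪≫ e⟩⟩
  exact eqToIso (congrArg (fun y : Σ k : ℕ, Subobject (free (A := A) (szIdx A k)) =>
    cokernel y.2.arrow) hi)

theorem isSmallCx_single : IsSmallCx 0 ((single A (ComplexShape.up ℤ) 0).obj (gen A)) := by
  let u : ∀ n, szIdx A 0 n → (gen A ⟶ ((single A (ComplexShape.up ℤ) 0).obj (gen A)).X n) :=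
    fun n _ => if h : n = 0 then (singleObjXIsoOfEq (ComplexShape.up ℤ) 0 (gen A) n h).inv else 0
  refine ⟨desc u, Preadditive.epi_of_cancel_zero _ fun {Z} z hz => ?_⟩
  refine HomologicalComplex.from_single_hom_ext ?_
  have h := el (szIdx A 0) 0 PUnit.unit ≫= congr($(hz).f 0)
  rw [comp_f, el_desc_assoc, zero_f, comp_zero] at h
  simp only [u, dif_pos trivial] at h
  rw [zero_f]
  exact (Preadditive.IsIso.comp_left_eq_zero _ _).1 h

variable [HasDerivedCategory.{v} A]

theorem exists_nonzero_from_small (X : DerivedCategory A) (hX : ¬ IsZero X) :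
    ∃ (i : smallIdx A) (n : ℤ) (f : Q.obj (smallCx i) ⟶ X⟦n⟧), f ≠ 0 := by
  obtain ⟨n, hn⟩ : ∃ n, ¬ IsZero ((DerivedCategory.homologyFunctor A n).obj X) := by
    by_contra h
    push Not at h
    refine hX ?_
    have : IsIso (0 : X ⟶ X) := by
      rw [DerivedCategory.isIso_iff]
      exact fun n => ⟨0, (h n).eq_of_src _ _, (h n).eq_of_src _ _⟩
    exact (IsZero.iff_id_eq_zero X).2 (by rw [← IsIso.hom_inv_id (0 : X ⟶ X), zero_comp])
  let M := Q.objPreimage (X⟦n⟧)
  let e := Q.objObjPreimageIso (X⟦n⟧)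
  have hM : ¬ IsZero (M.homology 0) := fun h => hn <| by
    have h1 : IsZero ((DerivedCategory.homologyFunctor A 0).obj (X⟦n⟧)) :=
      h.of_iso ((DerivedCategory.homologyFunctor A 0).mapIso e.symm ≪≫ (DerivedCategory.homologyFunctorFactors A 0).app M)
    exact h1.of_iso (((DerivedCategory.homologyFunctor A 0).shiftIso n 0 n (add_zero n)).app X).symm
  obtain ⟨c, hc⟩ : ∃ c : gen A ⟶ M.cycles 0, c ≫ M.homologyπ 0 ≠ 0 := by
    by_contra h
    push Not at h
    exact hM ((IsZero.iff_id_eq_zero _).2 (by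
      rw [← cancel_epi (M.homologyπ 0), comp_zero, Category.comp_id]
      exact eq_zero_of_gen _ h))
  obtain ⟨i, ⟨e'⟩⟩ := exists_smallCx (isSmallCx_single (A := A))
  let φ : (single A (ComplexShape.up ℤ) 0).obj (gen A) ⟶ M :=
    mkHomFromSingle (c ≫ M.iCycles 0) (by simp)
  refine ⟨i, n, Q.map e'.hom ≫ Q.map φ ≫ e.hom, fun h => hc ?_⟩
  have h1 : Q.map φ = 0 := by
    have := h
    rw [Preadditive.IsIso.comp_left_eq_zero, Preadditive.IsIso.comp_right_eq_zero] at this
    exact this
  have h2 : homologyMap φ 0 = 0 := by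
    refine (cancel_epi ((DerivedCategory.homologyFunctorFactors A 0).hom.app _)).1 ?_
    refine ((DerivedCategory.homologyFunctorFactors A 0).hom.naturality φ).symm.trans ?_
    rw [Functor.comp_map, h1, CategoryTheory.Functor.map_zero, zero_comp]
    exact comp_zero.symm
  have hd : (singleObjXSelf (ComplexShape.up ℤ) 0 (gen A)).inv ≫
      ((single A (ComplexShape.up ℤ) 0).obj (gen A)).d 0 1 = 0 := by simp
  let z := ((single A (ComplexShape.up ℤ) 0).obj (gen A)).liftCycles
    (singleObjXSelf (ComplexShape.up ℤ) 0 (gen A)).inv 1 (by simp) hd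
  have h3 : z ≫ cyclesMap φ 0 = c := by
    rw [← cancel_mono (M.iCycles 0), Category.assoc, cyclesMap_i, liftCycles_i_assoc]
    simp [φ]
  rw [← h3, Category.assoc, ← homologyπ_naturality, h2, comp_zero, comp_zero]

theorem exists_perf_small (X : ℕ → DerivedCategory A) [HasCoproducts.{v} (DerivedCategory A)]
    [HasColimitsOfShape (Discrete ℕ) (DerivedCategory A)] (i : smallIdx A)
    (α : Q.obj (smallCx i) ⟶ ∐ X) :
    ∃ (j : ℕ → smallIdx A) (β : ∀ n, Q.obj (smallCx (j n)) ⟶ X n)
      (γ : Q.obj (smallCx i) ⟶ ∐ fun n => Q.obj (smallCx (j n))), α = γ ≫ Limits.Sigma.map β := by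
  let T := ULift.{v} ℕ
  let M : T → CochainComplex A ℤ := fun t => Q.objPreimage (X t.down)
  let e : ∀ t : T, Q.obj (M t) ≅ X t.down := fun t => Q.objObjPreimageIso (X t.down)
  let Φ : ∐ X ⟶ Q.obj (∐ M) :=
    Sigma.desc fun n => (e ⟨n⟩).inv ≫ Q.map (Sigma.ι M ⟨n⟩)
  let Ψ : Q.obj (∐ M) ⟶ ∐ X :=
    (isColimitSigma M).desc (Cofan.mk _ fun t => (e t).hom ≫ Sigma.ι X t.down)
  have hΨ : ∀ t, Q.map (Sigma.ι M t) ≫ Ψ = (e t).hom ≫ Sigma.ι X t.down := fun t =>
    (isColimitSigma M).fac (Cofan.mk _ fun t => (e t).hom ≫ Sigma.ι X t.down) ⟨t⟩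
  have hΦΨ : Φ ≫ Ψ = 𝟙 _ := Sigma.hom_ext _ _ fun n => by
    simp [Φ, hΨ]
  obtain ⟨k, hk⟩ := isSmallCx_smallCx i
  obtain ⟨S, σ, g, hS, hσ, hg⟩ := exists_small_roof hk (α ≫ Φ)
  let q : ∀ t, S ⟶ M t := fun t => g ≫ sigmaProj M t
  have him : ∀ n : ℕ, ∃ j : smallIdx A, Nonempty (smallCx j ≅ Abelian.image (q ⟨n⟩)) := fun n =>
    exists_smallCx (hS.quotient (Abelian.factorThruImage (q ⟨n⟩)))
  choose j hj using him
  let N : T → CochainComplex A ℤ := fun t => Abelian.image (q t)
  let b : ∀ t, N t ⟶ M t := fun t => Abelian.image.ι (q t)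
  have hfac : g ≫ Limits.Sigma.map (fun t => cokernel.π (b t)) = 0 :=
    eq_zero_of_sigmaProj _ _ fun t => by
      have h : Limits.Sigma.map (fun t => cokernel.π (b t)) ≫ sigmaProj _ t =
          sigmaProj M t ≫ cokernel.π (b t) := Sigma.hom_ext _ _ fun s => by
        by_cases hst : s = t
        · subst hst
          rw [Sigma.ι_map_assoc, ι_sigmaProj_self, reassoc_of% (ι_sigmaProj_self M s)]
          simp
        · rw [Sigma.ι_map_assoc, ι_sigmaProj_of_ne _ hst, reassoc_of% (ι_sigmaProj_of_ne M hst),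
            comp_zero, zero_comp]
      rw [Category.assoc, h, ← Category.assoc]
      change q t ≫ _ = 0
      rw [← Abelian.image.fac (q t), Category.assoc, cokernel.condition, comp_zero]
  haveI : Mono (Limits.Sigma.map b) := inferInstance
  have hker : (ShortComplex.mk (Limits.Sigma.map b) (Limits.Sigma.map fun t => cokernel.π (b t))
      (Sigma.hom_ext _ _ fun t => by simp)).Exact :=
    ShortComplex.exact_of_g_is_cokernel _ (CokernelCofork.IsColimit.ofπ _ _
      (fun {W} z hz => Sigma.desc fun t => cokernel.desc (b t) (Sigma.ι M t ≫ z) (by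
        rw [← Sigma.ι_map_assoc, hz, comp_zero]))
      (fun {W} z hz => Sigma.hom_ext _ _ fun t => by simp)
      (fun {W} z hz m hm => Sigma.hom_ext _ _ fun t => by
        rw [Sigma.ι_desc, ← cancel_epi (cokernel.π (b t)), cokernel.π_desc, ← hm,
          Sigma.ι_map_assoc]))
  let g' := hker.lift g hfac
  have hg' : g' ≫ Limits.Sigma.map b = g := hker.lift_f g hfac
  refine ⟨j, fun n => Q.map ((hj n).some.hom ≫ b ⟨n⟩) ≫ (e ⟨n⟩).hom, inv (Q.map σ) ≫ Q.map g' ≫
    (isColimitSigma N).desc (Cofan.mk _ fun t => Q.map (hj t.down).some.inv ≫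
      Sigma.ι (fun n => Q.obj (smallCx (j n))) t.down), ?_⟩
  rw [← cancel_epi (Q.map σ), Category.assoc, IsIso.hom_inv_id_assoc, Category.assoc]
  have hα : Q.map σ ≫ α = Q.map g ≫ Ψ := by
    rw [← hg, Category.assoc, Category.assoc, hΦΨ, Category.comp_id]
  rw [hα, ← hg', Functor.map_comp, Category.assoc]
  refine congrArg (Q.map g' ≫ ·) ((isColimitSigma N).hom_ext fun ⟨t⟩ => ?_)
  rw [IsColimit.fac_assoc]
  change Q.map (Sigma.ι N t) ≫ _ = (Q.map _ ≫ Sigma.ι (fun n => Q.obj (smallCx (j n))) t.down) ≫ _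
  rw [← Functor.map_comp_assoc, Sigma.ι_map, Functor.map_comp, Category.assoc, hΨ, Category.assoc,
    Sigma.ι_map]
  simp only [Category.assoc, ← Functor.map_comp_assoc]
  simp [T]

/-- Brown representability in the derived category of a Grothendieck abelian category. -/
theorem isRepresentable_derivedCategory (H : (DerivedCategory A)ᵒᵖ ⥤ AddCommGrpCat.{v})
    [H.IsHomological] [∀ κ : Type v, PreservesLimitsOfShape (Discrete κ) H] :
    (H ⋙ forget AddCommGrpCat.{v}).IsRepresentable := by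
  haveI : HasCoproducts.{v} (DerivedCategory A) := hasCoproducts_derivedCategory
  haveI : HasColimitsOfShape (Discrete ℕ) (DerivedCategory A) :=
    hasColimitsOfShape_of_equivalence (Discrete.equivalence (Equiv.ulift.{v} : ULift.{v} ℕ ≃ ℕ))
  exact Brown.isRepresentable (Brown.PerfGen.closure (fun i : smallIdx A => Q.obj (smallCx i))
    exists_nonzero_from_small fun X i α => exists_perf_small X i α) H

theorem isLeftAdjoint_derivedCategory {D' : Type*} [Category.{v} D'] [Preadditive D']
    [HasZeroObject D'] [HasShift D' ℤ] [∀ n : ℤ, (shiftFunctor D' n).Additive] [Pretriangulated D']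
    (F : DerivedCategory A ⥤ D') [F.CommShift ℤ] [F.IsTriangulated]
    [∀ κ : Type v, PreservesColimitsOfShape (Discrete κ) F] : F.IsLeftAdjoint :=
  Brown.isLeftAdjoint_of_brown (fun H _ _ => isRepresentable_derivedCategory H) F

end Groth.Agent.KInjLib
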