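import Groth.Agent.Lib.KInj.Resolution
import Groth.Agent.Lib.KInj.Basic
import Groth.Prelude.Def_SpSeq
import Mathlib.Algebra.Homology.Functor
import Mathlib.Algebra.Homology.HomologySequenceLemmas
import Mathlib.Algebra.Homology.HomotopyCategory.DegreewiseSplit
import Mathlib.Algebra.Homology.ShortComplex.ExactFunctor
import Mathlib.CategoryTheory.Abelian.FunctorCategory
import Mathlib.CategoryTheory.Abelian.GrothendieckAxioms.FunctorCategory
import Mathlib.CategoryTheory.Adjunction.Evaluation
import Mathlib.CategoryTheory.Generator.Presheaf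

/-!
Filtered K-injective resolutions: resolve the system of quotients in a category of functors.
-/

set_option autoImplicit false

universe v u

open CategoryTheory CategoryTheory.Limits Opposite

namespace Groth.Agent.KInjLib

section General

variable {A : Type u} [Category.{v} A] [Abelian A]

theorem injective_cokernel {X Y : A} (f : X ⟶ Y) [Mono f] [Injective X] [Injective Y] :
    Injective (cokernel f) := by
  have : IsSplitMono f := IsSplitMono.mk' ⟨Injective.factorThru (𝟙 X) f, by simp⟩
  let s : cokernel f ⟶ Y := cokernel.desc f (𝟙 Y - retraction f ≫ f) (by simp)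
  have hs : s ≫ cokernel.π f = 𝟙 _ := by
    rw [← cancel_epi (cokernel.π f)]
    simp [s, Preadditive.sub_comp]
  exact ⟨fun {P Q} g m _ => ⟨Injective.factorThru (g ≫ s) m ≫ cokernel.π f, by
    rw [Injective.comp_factorThru_assoc, Category.assoc, hs, Category.comp_id]⟩⟩

theorem injective_kernel {X Y : A} (f : X ⟶ Y) [IsSplitEpi f] [Injective X] :
    Injective (kernel f) := by
  let r : X ⟶ kernel f := kernel.lift f (𝟙 X - f ≫ section_ f) (by simp [Preadditive.sub_comp])
  have hr : kernel.ι f ≫ r = 𝟙 _ := by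
    rw [← cancel_mono (kernel.ι f)]
    simp [r, Preadditive.comp_sub]
  exact ⟨fun {P Q} g m _ => ⟨Injective.factorThru (g ≫ kernel.ι f) m ≫ r, by
    rw [Injective.comp_factorThru_assoc, Category.assoc, hr, Category.comp_id]⟩⟩

/-- In a degreewise split short exact sequence, two K-injective complexes give a third. -/
theorem isKInjective_two_of_three {S : ShortComplex (CochainComplex A ℤ)}
    (σ : ∀ n, (S.map (HomologicalComplex.eval A _ n)).Splitting) :
    (S.X₂.IsKInjective → S.X₃.IsKInjective → S.X₁.IsKInjective) ∧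
      (S.X₁.IsKInjective → S.X₂.IsKInjective → S.X₃.IsKInjective) := by
  have hT : CochainComplex.trianglehOfDegreewiseSplit S σ ∈ distTriang _ :=
    (HomotopyCategory.distinguished_iff_iso_trianglehOfDegreewiseSplit _).2 ⟨S, σ, ⟨Iso.refl _⟩⟩
  constructor
  · intro h₂ h₃
    rw [CochainComplex.isKInjective_iff_rightOrthogonal]
    exact ObjectProperty.ext_of_isTriangulatedClosed₁ _ _ hT
      (CochainComplex.IsKInjective.rightOrthogonal S.X₂) (CochainComplex.IsKInjective.rightOrthogonal S.X₃)
  · intro h₁ h₂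
    rw [CochainComplex.isKInjective_iff_rightOrthogonal]
    exact ObjectProperty.ext_of_isTriangulatedClosed₃ _ _ hT
      (CochainComplex.IsKInjective.rightOrthogonal S.X₁) (CochainComplex.IsKInjective.rightOrthogonal S.X₂)

/-- A short exact sequence with injective left terms is degreewise split. -/
noncomputable def splittingOfInjective {S : ShortComplex (CochainComplex A ℤ)} (hS : S.ShortExact)
    (h : ∀ n, Injective (S.X₁.X n)) (n : ℤ) :
    (S.map (HomologicalComplex.eval A _ n)).Splitting :=
  letI : Injective (S.map (HomologicalComplex.eval A (ComplexShape.up ℤ) n)).X₁ := h n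
  (hS.map_of_exact (HomologicalComplex.eval A _ n)).splittingOfInjective

theorem quasiIso_τ₁ {S₁ S₂ : ShortComplex (CochainComplex A ℤ)} (φ : S₁ ⟶ S₂) (hS₁ : S₁.ShortExact)
    (hS₂ : S₂.ShortExact) (h₂ : QuasiIso φ.τ₂) (h₃ : QuasiIso φ.τ₃) : QuasiIso φ.τ₁ := by
  rw [quasiIso_iff]
  intro j
  rw [quasiIsoAt_iff_isIso_homologyMap]
  have hij : (ComplexShape.up ℤ).Rel (j - 1) j := by simp
  refine Abelian.isIso_of_epi_of_isIso_of_isIso_of_mono
    (φ := ComposableArrows.δ₀Functor.map
      (HomologicalComplex.HomologySequence.mapComposableArrows₅ φ hS₁ hS₂ (j - 1) j hij))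
    ((HomologicalComplex.HomologySequence.composableArrows₅_exact hS₁ (j - 1) j hij).δ₀)
    ((HomologicalComplex.HomologySequence.composableArrows₅_exact hS₂ (j - 1) j hij).δ₀) ?_ ?_ ?_ ?_
  · exact (inferInstance : Epi (HomologicalComplex.homologyMap φ.τ₂ (j - 1)))
  · exact (inferInstance : IsIso (HomologicalComplex.homologyMap φ.τ₃ (j - 1)))
  · exact (inferInstance : IsIso (HomologicalComplex.homologyMap φ.τ₂ j))
  · exact (inferInstance : Mono (HomologicalComplex.homologyMap φ.τ₃ j))

end General

section Poset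

variable {A : Type u} [Category.{v} A] [Abelian A] [IsGrothendieckAbelian.{v} A]
  {C : Type v} [SmallCategory C] [Quiver.IsThin C]

theorem mono_evaluationLeftAdjoint_map (c : C) {X Y : A} (f : X ⟶ Y) [Mono f] :
    Mono ((evaluationLeftAdjoint A c).map f) := by
  have : ∀ t, Mono (((evaluationLeftAdjoint A c).map f).app t) := fun t => by
    change Mono (Sigma.desc fun h => f ≫ Sigma.ι (fun _ : c ⟶ t => Y) h)
    by_cases h : Nonempty (c ⟶ t)
    · obtain ⟨h⟩ := h
      have e : (Sigma.desc fun h => f ≫ Sigma.ι (fun _ : c ⟶ t => Y) h) ≫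
          Sigma.desc (fun _ => 𝟙 Y) = Sigma.desc (fun _ : c ⟶ t => 𝟙 X) ≫ f :=
        Sigma.hom_ext _ _ fun g => by simp
      have : IsIso (Sigma.desc (fun _ : c ⟶ t => 𝟙 X)) :=
        ⟨Sigma.ι (fun _ : c ⟶ t => X) h, Sigma.hom_ext _ _ fun g => by
          simp [Subsingleton.elim g h], by simp⟩
      have : Mono ((Sigma.desc fun h => f ≫ Sigma.ι (fun _ : c ⟶ t => Y) h) ≫
          Sigma.desc (fun _ => 𝟙 Y)) := by
        rw [e]; infer_instance
      exact mono_of_mono _ (Sigma.desc (fun _ : c ⟶ t => 𝟙 Y))
    · have hz : IsZero (∐ fun _ : c ⟶ t => X) :=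
        (IsZero.iff_id_eq_zero _).2 (Sigma.hom_ext _ _ fun g => absurd ⟨g⟩ h)
      exact ⟨fun a b _ => hz.eq_of_tgt a b⟩
  exact NatTrans.mono_of_mono_app _

instance (c : C) : (evaluationLeftAdjoint A c).PreservesMonomorphisms :=
  ⟨fun f _ => mono_evaluationLeftAdjoint_map c f⟩

instance (c : C) : (evaluationLeftAdjoint A c).Additive :=
  (evaluationAdjunctionRight A c).left_adjoint_additive

theorem isKInjective_evaluation (c : C) (I : CochainComplex (C ⥤ A) ℤ) [I.IsKInjective] :
    CochainComplex.IsKInjective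
      ((((evaluation C A).obj c).mapHomologicalComplex (ComplexShape.up ℤ)).obj I) := by
  have : PreservesColimits (evaluationLeftAdjoint A c) :=
    (evaluationAdjunctionRight A c).leftAdjoint_preservesColimits
  have := (evaluationLeftAdjoint A c).preservesHomology_of_preservesMonos_and_cokernels
  have := (evaluationLeftAdjoint A c).preservesFiniteLimits_of_preservesHomology
  exact isKInjective_of_adj _ _ (evaluationAdjunctionRight A c) I

theorem injective_evaluation (c : C) (G : C ⥤ A) [Injective G] : Injective (G.obj c) :=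
  Injective.injective_of_adjoint (evaluationAdjunctionRight A c) G

theorem isSplitEpi_map_of_injective (G : C ⥤ A) [Injective G] {c d : C} (g : c ⟶ d) :
    IsSplitEpi (G.map g) := by
  let φ : (evaluationLeftAdjoint A d).obj (G.obj d) ⟶ (evaluationLeftAdjoint A c).obj (G.obj d) :=
    { app := fun t => Sigma.desc fun h => Sigma.ι (fun _ : c ⟶ t => G.obj d) (g ≫ h)
      naturality := fun t t' a => Sigma.hom_ext _ _ fun h => by
        dsimp [evaluationLeftAdjoint]
        erw [Sigma.ι_desc_assoc, Sigma.ι_desc_assoc, Sigma.ι_desc, Sigma.ι_desc, Category.assoc] }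
  have : ∀ t, Mono (φ.app t) := fun t => by
    change Mono (Sigma.desc fun h : d ⟶ t => Sigma.ι (fun _ : c ⟶ t => G.obj d) (g ≫ h))
    classical
    let r : (∐ fun _ : c ⟶ t => G.obj d) ⟶ ∐ fun _ : d ⟶ t => G.obj d :=
      Sigma.desc fun _ => if h : Nonempty (d ⟶ t) then Sigma.ι (fun _ : d ⟶ t => G.obj d) h.some
        else 0
    have e : (Sigma.desc fun h : d ⟶ t => Sigma.ι (fun _ : c ⟶ t => G.obj d) (g ≫ h)) ≫ r = 𝟙 _ :=
      Sigma.hom_ext _ _ fun h => by
        simp only [r, Sigma.ι_desc_assoc, Sigma.ι_desc, dif_pos (Nonempty.intro h), Category.comp_id]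
        exact congrArg _ (Subsingleton.elim _ _)
    exact (IsSplitMono.mk' ⟨r, e⟩ : IsSplitMono _).mono
  have : Mono φ := NatTrans.mono_of_mono_app _
  let id' : (evaluationLeftAdjoint A d).obj (G.obj d) ⟶ G := ((evaluationAdjunctionRight A d).homEquiv _ _).symm (𝟙 _)
  let l := Injective.factorThru id' φ
  have hl : φ ≫ l = id' := Injective.comp_factorThru _ _
  refine IsSplitEpi.mk' ⟨Sigma.ι (fun _ : c ⟶ c => G.obj d) (𝟙 c) ≫ l.app c, ?_⟩
  have := congr_arg (Sigma.ι (fun _ : d ⟶ d => G.obj d) (𝟙 d) ≫ ·) (NatTrans.congr_app hl d)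
  simp only [φ, id', evaluationAdjunctionRight, NatTrans.comp_app, Sigma.ι_desc_assoc] at this
  rw [Category.assoc]
  refine (congrArg (Sigma.ι (fun _ : c ⟶ c => G.obj d) (𝟙 c) ≫ ·) (l.naturality g).symm).trans ?_
  have hd : Sigma.ι (fun _ : d ⟶ d => G.obj d) (𝟙 d) ≫
      (Sigma.desc fun h => Sigma.ι (fun _ : c ⟶ d => G.obj d) (g ≫ h)) ≫ l.app d =
      Sigma.ι (fun _ : c ⟶ c => G.obj d) (𝟙 c) ≫
        ((evaluationLeftAdjoint A c).obj (G.obj d)).map g ≫ l.app d := by
    dsimp [evaluationLeftAdjoint]
    erw [Sigma.ι_desc_assoc, Sigma.ι_desc_assoc, Category.comp_id, Category.id_comp]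
  refine hd.symm.trans (this.trans ?_)
  simp

end Poset

section FilCx

variable {A : Type u} [Category.{v} A] [Abelian A]

/-- The index category of filtered resolutions. -/
abbrev FilIdx : Type v := (AsSmall.{v} (WithTop ℤ))ᵒᵖ

instance : Quiver.IsThin FilIdx.{v} := fun a b =>
  ⟨fun f g => Quiver.Hom.unop_inj (ULift.ext _ _ (Subsingleton.elim _ _))⟩

instance [IsGrothendieckAbelian.{v} A] : IsGrothendieckAbelian.{v} (FilIdx.{v} ⥤ A) where
  ab5OfSize := ⟨fun J _ _ => inferInstance⟩

variable (K : SpSeq.FilCx A)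

/-- The steps of the filtration, with `⊥` at infinity. -/
noncomputable def filTop (p : WithTop ℤ) : Subobject K.obj := WithTop.recTopCoe ⊥ K.fil p

theorem filTop_anti {p q : WithTop ℤ} (h : p ≤ q) : filTop K q ≤ filTop K p := by
  induction q using WithTop.recTopCoe with
  | top => exact bot_le
  | coe q =>
    induction p using WithTop.recTopCoe with
    | top => exact absurd h (by simp)
    | coe p => exact K.anti (by simpa using h)

/-- The system of quotients of a filtered complex. -/
noncomputable def quotFunctor : FilIdx.{v} ⥤ CochainComplex A ℤ where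
  obj e := cokernel (filTop K (AsSmall.down.obj e.unop)).arrow
  map {e e'} a := cokernel.desc _ (cokernel.π _) (by
    rw [← Subobject.ofLE_arrow (filTop_anti K (leOfHom (AsSmall.down.map a.unop))), Category.assoc,
      cokernel.condition, comp_zero])
  map_id e := coequalizer.hom_ext (by simp)
  map_comp a b := coequalizer.hom_ext (by simp)

/-- The system of quotients as a complex of functors. -/
noncomputable def quotComplex : CochainComplex (FilIdx.{v} ⥤ A) ℤ where
  X n := quotFunctor K ⋙ HomologicalComplex.eval A _ n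
  d i j :=
    { app := fun e => ((quotFunctor K).obj e).d i j
      naturality := fun e e' a => ((quotFunctor K).map a).comm i j }
  shape i j h := by ext e; exact ((quotFunctor K).obj e).shape i j h
  d_comp_d' i j k _ _ := by ext e; exact ((quotFunctor K).obj e).d_comp_d i j k

/-- The index of a step. -/
abbrev filIx (p : WithTop ℤ) : FilIdx.{v} := op (AsSmall.up.obj p)

variable (I : CochainComplex (FilIdx.{v} ⥤ A) ℤ)

/-- The projection from the last object to a step. -/
noncomputable def filProj (p : ℤ) :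
    I.asFunctor.obj (filIx ⊤) ⟶ I.asFunctor.obj (filIx (p : WithTop ℤ)) :=
  I.asFunctor.map (AsSmall.up.map (homOfLE le_top)).op

theorem filProj_comp {p q : ℤ} (h : p ≤ q) :
    filProj I q ≫ I.asFunctor.map
      (AsSmall.up.map (homOfLE (WithTop.coe_le_coe.2 h))).op = filProj I p := by
  rw [filProj, ← Functor.map_comp, filProj]
  exact congrArg _ (Subsingleton.elim _ _)

/-- The filtered complex of kernels. -/
noncomputable def kernelFil : SpSeq.FilCx A where
  obj := I.asFunctor.obj (filIx ⊤)
  fil p := kernelSubobject (filProj I p)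
  anti p q h := le_kernelSubobject _ _ (by
    rw [← filProj_comp I h, kernelSubobject_arrow_comp_assoc, zero_comp])

theorem mono_f {X Y : CochainComplex A ℤ} (f : X ⟶ Y) [Mono f] (n : ℤ) : Mono (f.f n) :=
  inferInstanceAs (Mono ((HomologicalComplex.eval A (ComplexShape.up ℤ) n).map f))

section Injective

variable [IsGrothendieckAbelian.{v} A] (hI : ∀ n, Injective (I.X n))

include hI

theorem isSplitEpi_filProj (p n : ℤ) : IsSplitEpi ((filProj I p).f n) :=
  haveI := hI n
  isSplitEpi_map_of_injective (I.X n) _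

theorem injective_X_obj (e : FilIdx.{v}) (n : ℤ) : Injective ((I.asFunctor.obj e).X n) :=
  haveI := hI n
  injective_evaluation e (I.X n)

theorem injective_step_X (p n : ℤ) : Injective (((kernelFil I).step p).X n) := by
  have := isSplitEpi_filProj I hI p n
  have := injective_X_obj I hI (filIx ⊤) n
  exact Injective.of_iso ((PreservesKernel.iso (HomologicalComplex.eval A _ n) (filProj I p)).symm ≪≫
    (HomologicalComplex.eval A _ n).mapIso (kernelSubobjectIso (filProj I p)).symm)
    (injective_kernel ((filProj I p).f n))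

theorem injective_XFil (n p : ℤ) : Injective (((kernelFil I).XFil n).step p) :=
  Injective.of_iso (@Subobject.underlyingIso _ _ _ _ (((kernelFil I).fil p).arrow.f n) (mono_f _ _)).symm
    (injective_step_X I hI p n)

theorem shortExact_filProj (p : ℤ) :
    (ShortComplex.mk _ _ (kernelSubobject_arrow_comp (filProj I p))).ShortExact := by
  have : ∀ n, Epi ((filProj I p).f n) := fun n => (isSplitEpi_filProj I hI p n).epi
  have : Epi (filProj I p) := HomologicalComplex.epi_of_epi_f _ this
  refine { exact := ShortComplex.exact_of_f_is_kernel _ ?_, mono_f := inferInstance, epi_g := this }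
  exact IsLimit.ofIsoLimit (kernelIsKernel _)
    (Fork.ext (kernelSubobjectIso (filProj I p)).symm (by simp))

theorem isKInjective_step [I.IsKInjective] (p : ℤ) :
    CochainComplex.IsKInjective ((kernelFil I).step p) :=
  (isKInjective_two_of_three (splittingOfInjective (shortExact_filProj I hI p)
    fun n => injective_step_X I hI p n)).1
    (isKInjective_evaluation (filIx ⊤) I) (isKInjective_evaluation _ I)

end Injective

theorem shortExact_cokernel {X Y : CochainComplex A ℤ} (f : X ⟶ Y) [Mono f] :
    (ShortComplex.mk f (cokernel.π f) (cokernel.condition f)).ShortExact :=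
  { exact := ShortComplex.exact_of_g_is_cokernel _ (cokernelIsCokernel f) }

theorem isKInjective_cokernel {X Y : CochainComplex A ℤ} (f : X ⟶ Y) [Mono f]
    (h : ∀ n, Injective (X.X n)) (hX : X.IsKInjective) (hY : Y.IsKInjective) :
    CochainComplex.IsKInjective (cokernel f) :=
  (isKInjective_two_of_three (splittingOfInjective (shortExact_cokernel f) h)).2 hX hY

theorem quasiIso_cokernelMap {X Y X' Y' : CochainComplex A ℤ} (f : X ⟶ Y) (f' : X' ⟶ Y') [Mono f]
    [Mono f'] (a : X ⟶ X') (b : Y ⟶ Y') (w : f ≫ b = a ≫ f') (ha : _root_.QuasiIso a)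
    (hb : _root_.QuasiIso b) : _root_.QuasiIso (cokernel.map f f' a b w) :=
  HomologicalComplex.HomologySequence.quasiIso_τ₃
    (ShortComplex.homMk (S₁ := ShortComplex.mk f (cokernel.π f) (cokernel.condition f))
      (S₂ := ShortComplex.mk f' (cokernel.π f') (cokernel.condition f'))
      a b (cokernel.map f f' a b w) w.symm (cokernel.π_desc _ _ _).symm)
    (shortExact_cokernel f) (shortExact_cokernel f') ha hb

variable {K I}

/-- The comparison at an index. -/
noncomputable def quotComparison (η : quotComplex K ⟶ I) (e : FilIdx.{v}) :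
    (quotFunctor K).obj e ⟶ I.asFunctor.obj e where
  f n := (η.f n).app e
  comm' i j _ := NatTrans.congr_app (η.comm i j) e

theorem quotComparison_naturality (η : quotComplex K ⟶ I) {e e' : FilIdx.{v}} (a : e ⟶ e') :
    (quotFunctor K).map a ≫ quotComparison η e' = quotComparison η e ≫ I.asFunctor.map a :=
  HomologicalComplex.hom_ext _ _ fun n => (η.f n).naturality a

/-- The comparison on the underlying complexes. -/
noncomputable def filComparison (η : quotComplex K ⟶ I) : K.obj ⟶ (kernelFil I).obj :=
  cokernel.π (⊥ : Subobject K.obj).arrow ≫ quotComparison η (filIx ⊤)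

theorem filComparison_proj (η : quotComplex K ⟶ I) (p : ℤ) :
    filComparison η ≫ filProj I p =
      cokernel.π (K.fil p).arrow ≫ quotComparison η (filIx (p : WithTop ℤ)) := by
  rw [filComparison, Category.assoc]
  refine (congrArg (cokernel.π (⊥ : Subobject K.obj).arrow ≫ ·)
    (quotComparison_naturality η
      ((AsSmall.up.map (homOfLE (le_top : (p : WithTop ℤ) ≤ ⊤))).op)).symm).trans ?_
  exact cokernel.π_desc_assoc _ _ _ _

theorem filComparison_factors (η : quotComplex K ⟶ I) (p : ℤ) :
    (K.fil p).arrow ≫ filComparison η ≫ filProj I p = 0 := by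
  rw [filComparison_proj, cokernel.condition_assoc, zero_comp]

theorem le_pullback_of_fac {B : Type*} [Category B] [HasPullbacks B] {X Y : B} {S : Subobject X}
    {T : Subobject Y} {f : X ⟶ Y} (t : (S : B) ⟶ T) (w : t ≫ T.arrow = S.arrow ≫ f) :
    S ≤ (Subobject.pullback f).obj T := by
  rw [Subobject.pullback_obj]
  exact Subobject.le_mk_of_comm (pullback.lift t S.arrow w) (pullback.lift_snd _ _ _)

theorem exists_filtered_resolution [IsGrothendieckAbelian.{v} A] (K : SpSeq.FilCx A) :
    ∃ (J : SpSeq.FilCx A) (j : K ⟶ J),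
      (∀ n p : ℤ, Injective (J.obj.X n) ∧ Injective ((J.XFil n).step p) ∧ Injective ((J.XFil n).quot p) ∧
        ∀ (p' : ℤ) (h : p ≤ p'), Injective (cokernel ((J.XFil n).stepLE h))) ∧
      (CochainComplex.IsKInjective J.obj ∧ ∀ p : ℤ, CochainComplex.IsKInjective (J.step p) ∧
        CochainComplex.IsKInjective (J.quot p) ∧
        ∀ (p' : ℤ) (h : p ≤ p'), CochainComplex.IsKInjective (cokernel (J.stepLE h))) ∧
      _root_.QuasiIso j.hom ∧
      (∀ p : ℤ, ∃ jp : K.step p ⟶ J.step p, jp ≫ (J.fil p).arrow = (K.fil p).arrow ≫ j.hom ∧ _root_.QuasiIso jp ∧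
        (∀ (p' : ℤ) (h : p ≤ p'), ∃ (jp' : K.step p' ⟶ J.step p') (jg : cokernel (K.stepLE h) ⟶ cokernel (J.stepLE h)),
          jp' ≫ (J.fil p').arrow = (K.fil p').arrow ≫ j.hom ∧ jp' ≫ J.stepLE h = K.stepLE h ≫ jp ∧
          cokernel.π (K.stepLE h) ≫ jg = jp ≫ cokernel.π (J.stepLE h) ∧ _root_.QuasiIso jg)) ∧
      (∀ p : ℤ, ∃ jq : K.quot p ⟶ J.quot p,
        cokernel.π (K.fil p).arrow ≫ jq = j.hom ≫ cokernel.π (J.fil p).arrow ∧ _root_.QuasiIso jq) := by
  obtain ⟨I, η, hI, hη, -, hinj⟩ := exists_resolution (quotComplex K)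
  let J := kernelFil I
  let j₀ := filComparison η
  have hq : ∀ e, _root_.QuasiIso (quotComparison η e) := fun e =>
    (HomologicalComplex.quasiIso_iff_evaluation η).1 hη e
  have hz : (⊥ : Subobject K.obj).arrow = 0 := Subobject.bot_arrow
  have : IsIso (cokernel.π (⊥ : Subobject K.obj).arrow) :=
    ⟨cokernel.desc _ (𝟙 _) (by rw [hz, zero_comp]), cokernel.π_desc _ _ _,
      coequalizer.hom_ext (by simp)⟩
  have hj : _root_.QuasiIso j₀ := by
    exact @_root_.quasiIso_comp _ _ _ _ _ _ _ _ (cokernel.π (⊥ : Subobject K.obj).arrow)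
      (quotComparison η (filIx ⊤)) _ _ _ inferInstance (hq _)
  have hfac : ∀ p, (kernelSubobject (filProj I p)).Factors ((K.fil p).arrow ≫ j₀) := fun p =>
    kernelSubobject_factors _ _ (by rw [Category.assoc]; exact filComparison_factors η p)
  let t : ∀ p, K.step p ⟶ J.step p := fun p =>
    (kernelSubobject (filProj I p)).factorThru _ (hfac p)
  have ht : ∀ p, t p ≫ (J.fil p).arrow = (K.fil p).arrow ≫ j₀ := fun p => Subobject.factorThru_arrow _ _ _
  have htq : ∀ p, _root_.QuasiIso (t p) := fun p =>
    quasiIso_τ₁ (ShortComplex.homMk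
      (S₁ := ShortComplex.mk (K.fil p).arrow (cokernel.π _) (cokernel.condition _))
      (S₂ := ShortComplex.mk _ _ (kernelSubobject_arrow_comp (filProj I p)))
      (t p) j₀ (quotComparison η (filIx (p : WithTop ℤ))) (ht p) (filComparison_proj η p))
      (shortExact_cokernel _) (shortExact_filProj I hinj p) hj (hq _)
  have hobj : CochainComplex.IsKInjective J.obj := isKInjective_evaluation (filIx ⊤) I
  have hJX : ∀ n, Injective (J.obj.X n) := fun n => injective_X_obj I hinj _ n
  refine ⟨J, ⟨j₀, fun p => le_pullback_of_fac (t p) (ht p)⟩, fun n p => ?_, ⟨hobj, fun p => ?_⟩, hj,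
    fun p => ⟨t p, ht p, htq p, fun p' h => ?_⟩, fun p => ?_⟩
  · have : Injective (J.XFil n).obj := hJX n
    have := injective_XFil I hinj n p
    refine ⟨hJX n, injective_XFil I hinj n p, injective_cokernel _, fun p' h => ?_⟩
    have := injective_XFil I hinj n p'
    exact injective_cokernel _
  · exact ⟨isKInjective_step I hinj p,
      isKInjective_cokernel _ (injective_step_X I hinj p) (isKInjective_step I hinj p) hobj,
      fun p' h => isKInjective_cokernel _ (injective_step_X I hinj p') (isKInjective_step I hinj p')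
        (isKInjective_step I hinj p)⟩
  · have w : t p' ≫ J.stepLE h = K.stepLE h ≫ t p := by
      rw [← cancel_mono (J.fil p).arrow, Category.assoc, Category.assoc, Subobject.ofLE_arrow, ht, ht,
        Subobject.ofLE_arrow_assoc]
    exact ⟨t p', cokernel.map _ _ (t p') (t p) w.symm, ht p', w, cokernel.π_desc _ _ _,
      quasiIso_cokernelMap _ _ _ _ _ (htq p') (htq p)⟩
  · exact ⟨cokernel.map _ _ (t p) j₀ (ht p).symm, cokernel.π_desc _ _ _,
      quasiIso_cokernelMap _ _ _ _ _ (htq p) hj⟩

end FilCx

end Groth.Agent.KInjLib
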