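import Groth.Agent.Lib.KInj.Free
import Mathlib.Algebra.Homology.Refinements
import Mathlib.Algebra.Homology.HomologySequenceLemmas
import Mathlib.CategoryTheory.Abelian.GrothendieckAxioms.Colim
import Mathlib.Algebra.Homology.HomotopyCategory.KInjective

/-!
Acyclic complexes: filtered colimits, short exact sequences, contractible complexes.
-/

set_option autoImplicit false

universe v u

open CategoryTheory CategoryTheory.Limits HomologicalComplex

namespace Groth.Agent.KInjLib

variable {A : Type u} [Category.{v} A] [Abelian A]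

theorem iCycles_pOpcycles_eq_zero {K : CochainComplex A ℤ} (hK : K.Acyclic) (n : ℤ) :
    K.iCycles n ≫ K.pOpcycles n = 0 := by
  obtain ⟨A', π, hπ, x, hx⟩ := ((K.exactAt_iff_exact_up_to_refinements (n - 1) n (n + 1)
    (by simp) (by simp)).1 (hK n)) (K.iCycles n) (K.iCycles_d n (n + 1))
  rw [← cancel_epi π, comp_zero, ← Category.assoc, hx, Category.assoc, d_pOpcycles, comp_zero]

theorem acyclic_of_iCycles_pOpcycles {K : CochainComplex A ℤ}
    (h : ∀ n, K.iCycles n ≫ K.pOpcycles n = 0) : K.Acyclic := fun n => by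
  refine (K.exactAt_iff_exact_up_to_refinements (n - 1) n (n + 1) (by simp) (by simp)).2 fun X x hx => ?_
  exact (K.comp_pOpcycles_eq_zero_iff_up_to_refinements x (n - 1) (by simp)).1
    (by rw [← K.liftCycles_i x (n + 1) (by simp) hx, Category.assoc, h, comp_zero])

theorem acyclic_of_isZero_homology {K : CochainComplex A ℤ} (h : ∀ n, IsZero (K.homology n)) :
    K.Acyclic :=
  fun n => (K.exactAt_iff_isZero_homology n).2 (h n)

theorem acyclic_of_contractible {K : CochainComplex A ℤ} (h : Homotopy (𝟙 K) 0) : K.Acyclic :=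
  acyclic_of_isZero_homology fun n => by
    rw [IsZero.iff_id_eq_zero, ← homologyMap_id, h.homologyMap_eq, homologyMap_zero]

theorem acyclic_of_iso {K L : CochainComplex A ℤ} (e : K ≅ L) (h : K.Acyclic) : L.Acyclic :=
  fun n => (exactAt_iff_isZero_homology _ n).2
    (((exactAt_iff_isZero_homology _ n).1 (h n)).of_iso
      ((homologyFunctor A _ n).mapIso e.symm))

theorem acyclic_X₃ {S : ShortComplex (CochainComplex A ℤ)} (hS : S.ShortExact) (h₁ : S.X₁.Acyclic)
    (h₂ : S.X₂.Acyclic) : S.X₃.Acyclic :=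
  acyclic_of_isZero_homology fun n => by
    refine (hS.homology_exact₃ n (n + 1) (by simp)).isZero_X₂ ?_ ?_
    · exact ((exactAt_iff_isZero_homology _ n).1 (h₂ n)).eq_of_src _ _
    · exact ((exactAt_iff_isZero_homology _ (n + 1)).1 (h₁ (n + 1))).eq_of_tgt _ _

theorem acyclic_double_id (X : A) (n : ℤ) :
    (double (𝟙 X) (c := ComplexShape.up ℤ) (i₀ := n) (i₁ := n + 1) rfl).Acyclic := by
  intro k
  have hd := double_d (𝟙 X) (c := ComplexShape.up ℤ) (i₀ := n) (i₁ := n + 1) rfl (by omega)
  rw [Category.id_comp] at hd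
  by_cases h₀ : k = n
  · subst h₀
    refine (exactAt_iff_exact_up_to_refinements _ (k - 1) k (k + 1) (by simp) (by simp)).2
      fun B x hx => ⟨B, 𝟙 B, inferInstance, 0, ?_⟩
    rw [hd] at hx
    rw [zero_comp, Category.id_comp]
    exact (cancel_mono _).1 (hx.trans zero_comp.symm)
  · by_cases h₁ : k = n + 1
    · subst h₁
      refine (exactAt_iff_exact_up_to_refinements _ n (n + 1) (n + 1 + 1) (by simp) (by simp)).2
        fun B x _ => ⟨B, 𝟙 B, inferInstance, x ≫ (doubleXIso₁ (𝟙 X) (c := ComplexShape.up ℤ)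
          (i₀ := n) (i₁ := n + 1) rfl (by omega)).hom ≫ (doubleXIso₀ (𝟙 X) (c := ComplexShape.up ℤ)
          (i₀ := n) (i₁ := n + 1) rfl).inv, ?_⟩
      rw [hd]
      simp
    · exact ShortComplex.exact_of_isZero_X₂ _ (isZero_double_X (𝟙 X) (c := ComplexShape.up ℤ) (i₀ := n) (i₁ := n + 1) rfl k h₀ h₁)

section Colimit

variable {J : Type v} [SmallCategory J] [HasColimitsOfShape J A] [HasExactColimitsOfShape J A]
  (F : J ⥤ CochainComplex A ℤ) {c : Cocone F} (hc : IsColimit c)

include hc in
/-- A colimit of complexes is acyclic as soon as every cycle of a stage becomes a boundary in a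
later stage. -/
theorem acyclic_of_isColimit
    (h : ∀ (j : J) (n : ℤ), ∃ (j' : J) (f : j ⟶ j'),
      (F.obj j).iCycles n ≫ (F.map f).f n ≫ (F.obj j').pOpcycles n = 0) :
    c.pt.Acyclic := by
  refine acyclic_of_iCycles_pOpcycles fun n => ?_
  let Z : J ⥤ A := F ⋙ cyclesFunctor A (ComplexShape.up ℤ) n
  let α : Z ⟶ F ⋙ eval A (ComplexShape.up ℤ) n :=
    { app := fun j => (F.obj j).iCycles n
      naturality := fun j j' f => cyclesMap_i (F.map f) n }
  let β : F ⋙ eval A (ComplexShape.up ℤ) n ⟶ F ⋙ eval A (ComplexShape.up ℤ) (n + 1) :=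
    { app := fun j => (F.obj j).d n (n + 1)
      naturality := fun j j' f => ((F.map f).comm n (n + 1)) }
  let S : ShortComplex (J ⥤ A) := ShortComplex.mk α β (by
    ext j
    exact (F.obj j).iCycles_d n (n + 1))
  have hS : S.Exact := by
    rw [ShortComplex.exact_iff_isZero_homology]
    refine Functor.isZero _ fun j => IsZero.of_iso ?_
      (S.mapHomologyIso ((evaluation J A).obj j)).symm
    rw [← ShortComplex.exact_iff_isZero_homology]
    exact ShortComplex.exact_of_f_is_kernel _ ((F.obj j).cyclesIsKernel n (n + 1) (by simp))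
  let f₁ : colimit Z ⟶ c.pt.X n := colimit.desc Z
    { pt := c.pt.X n
      ι := α ≫ ((eval A (ComplexShape.up ℤ) n).mapCocone c).ι }
  have hex := colim.exact_mapShortComplex hS (colimit.isColimit Z)
    (isColimitOfPreserves (eval A (ComplexShape.up ℤ) n) hc)
    (isColimitOfPreserves (eval A (ComplexShape.up ℤ) (n + 1)) hc)
    f₁ (c.pt.d n (n + 1)) (fun j => colimit.ι_desc _ j)
    (fun j => (c.ι.app j).comm n (n + 1))
  have hf₁ : f₁ ≫ c.pt.pOpcycles n = 0 := colimit.hom_ext fun j => by
    obtain ⟨j', g, hg⟩ := h j n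
    have hι : colimit.ι Z j ≫ f₁ = (F.obj j).iCycles n ≫ (c.ι.app j).f n := colimit.ι_desc _ j
    have e : (F.obj j).iCycles n ≫ (c.ι.app j).f n ≫ c.pt.pOpcycles n = 0 := by
      rw [← c.w g, comp_f, Category.assoc]
      have hp : (c.ι.app j').f n ≫ c.pt.pOpcycles n =
          (F.obj j').pOpcycles n ≫ opcyclesMap (c.ι.app j') n := (p_opcyclesMap _ n).symm
      exact (congrArg (fun t => (F.obj j).iCycles n ≫ (F.map g).f n ≫ t) hp).trans
        (((reassoc_of% hg) _).trans zero_comp)
    rw [comp_zero]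
    exact (Category.assoc _ _ _).symm.trans
      ((congrArg (· ≫ c.pt.pOpcycles n) hι).trans ((Category.assoc _ _ _).trans e))
  obtain ⟨B, π, hπ, x, hx⟩ := hex.exact_up_to_refinements (c.pt.iCycles n)
    (c.pt.iCycles_d n (n + 1))
  refine (cancel_epi π).1 (Eq.trans ?_ comp_zero.symm)
  exact (Category.assoc _ _ _).symm.trans ((congrArg (· ≫ c.pt.pOpcycles n) hx).trans
    ((Category.assoc x f₁ _).trans ((congrArg (x ≫ ·) hf₁).trans comp_zero)))

include hc in
theorem acyclic_of_isColimit_of_acyclic (h : ∀ j, (F.obj j).Acyclic) : c.pt.Acyclic :=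
  acyclic_of_isColimit F hc fun j n => ⟨j, 𝟙 j, by
    rw [CategoryTheory.Functor.map_id, id_f, Category.id_comp]
    exact iCycles_pOpcycles_eq_zero (h j) n⟩

end Colimit

end Groth.Agent.KInjLib
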