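import Mathlib.CategoryTheory.Functor.Derived.Adjunction
import Mathlib.CategoryTheory.Functor.Derived.PointwiseLeftDerived
import Mathlib.CategoryTheory.Functor.Derived.RightDerived
import Mathlib.CategoryTheory.Adjunction.FullyFaithful

/-!
A criterion for right derived functors through a class of deriving objects, and derived adjunctions.
-/

set_option autoImplicit false

universe v₁ v₂ v₃ v₄ u₁ u₂ u₃ u₄

open CategoryTheory

namespace Groth.Agent.KInjLib

variable {C : Type u₁} [Category.{v₁} C] {D : Type u₂} [Category.{v₂} D] {H : Type u₃}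
  [Category.{v₃} H] (L : C ⥤ D) (W : MorphismProperty C) [L.IsLocalization W]

/-- Enough objects through which morphisms lift. -/
structure DerivingClass (P : C → Prop) : Prop where
  res : ∀ X : C, ∃ (I : C) (_ : P I) (w : X ⟶ I), IsIso (L.map w)
  surj : ∀ I J : C, P J → Function.Surjective (L.map : (I ⟶ J) → (L.obj I ⟶ L.obj J))

variable {L W} {P : C → Prop}

include W in
theorem DerivingClass.exists_iso (hP : DerivingClass L P) (Y : D) :
    ∃ (I : C) (_ : P I), Nonempty (Y ≅ L.obj I) := by
  have := Localization.essSurj L W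
  obtain ⟨I, hI, w, hw⟩ := hP.res (L.objPreimage Y)
  exact ⟨I, hI, ⟨(L.objObjPreimageIso Y).symm ≪≫ asIso (L.map w)⟩⟩

/-- A functor with a natural transformation which is an isomorphism on a deriving class is a right
derived functor. -/
theorem isRightDerivedFunctor_of_isIso (hP : DerivingClass L P) {F : C ⥤ H} {RF : D ⥤ H}
    (α : F ⟶ L ⋙ RF) (hα : ∀ I, P I → IsIso (α.app I)) : RF.IsRightDerivedFunctor α W := by
  refine ⟨⟨⟨Limits.IsInitial.ofUniqueHom (fun G => ?_) fun G m => ?_⟩⟩⟩
  rotate_left
  rotate_left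
  · choose I hI hi using hP.exists_iso (W := W)
    let e : ∀ Y, Y ≅ L.obj (I Y) := fun Y => (hi Y).some
    let app : ∀ Y, RF.obj Y ⟶ G.right.obj Y := fun Y =>
      RF.map (e Y).hom ≫ @inv _ _ _ _ (α.app (I Y)) (hα _ (hI Y)) ≫ G.hom.app (I Y) ≫
        G.right.map (e Y).inv
    have key : ∀ (Y : D) (J : C) (_ : P J) (d : Y ⟶ L.obj J), app Y ≫ G.right.map d =
        RF.map d ≫ @inv _ _ _ _ (α.app J) (hα _ ‹_›) ≫ G.hom.app J := fun Y J hJ d => by
      have := hα _ hJ
      have := hα _ (hI Y)
      obtain ⟨φ, hφ⟩ := hP.surj (I Y) J hJ ((e Y).inv ≫ d)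
      have h1 : RF.map d = RF.map (e Y).hom ≫ RF.map (L.map φ) := by
        rw [← RF.map_comp, hφ, Iso.hom_inv_id_assoc]
      have h2 : α.app (I Y) ≫ RF.map (L.map φ) = F.map φ ≫ α.app J := (α.naturality φ).symm
      have h3 : inv (α.app (I Y)) ≫ G.hom.app (I Y) ≫ G.right.map (L.map φ) =
          RF.map (L.map φ) ≫ inv (α.app J) ≫ G.hom.app J := by
        rw [IsIso.inv_comp_eq, reassoc_of% h2, IsIso.hom_inv_id_assoc]
        exact (G.hom.naturality φ).symm
      rw [h1]
      simp only [app, Category.assoc, ← G.right.map_comp]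
      rw [← hφ]
      exact congrArg (RF.map (e Y).hom ≫ ·) h3
    clear_value app
    refine StructuredArrow.homMk
      { app := app
        naturality := fun Y Y' d => ?_ } ?_
    · have := hα _ (hI Y')
      change RF.map d ≫ app Y' = app Y ≫ G.right.map d
      rw [← cancel_mono (G.right.map (e Y').hom), Category.assoc, Category.assoc,
        key Y' _ (hI Y'), ← G.right.map_comp, key Y _ (hI Y'), ← RF.map_comp_assoc]
    · ext X
      obtain ⟨J, hJ, w, hw⟩ := hP.res X
      have := hα _ hJ
      have h4 : α.app X ≫ RF.map (L.map w) = F.map w ≫ α.app J := (α.naturality w).symm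
      rw [← cancel_mono (G.right.map (L.map w))]
      change (α.app X ≫ app (L.obj X)) ≫ _ = _
      rw [Category.assoc, key _ J hJ (L.map w), reassoc_of% h4, IsIso.hom_inv_id_assoc]
      exact G.hom.naturality w
  · refine StructuredArrow.ext _ _ ?_
    ext Y
    obtain ⟨I, hI, ⟨e⟩⟩ := hP.exists_iso (W := W) Y
    have := hα _ hI
    have hm : ∀ m' : Functor.LeftExtension.mk RF α ⟶ G,
        α.app I ≫ m'.right.app (L.obj I) = G.hom.app I := fun m' =>
      congr_app (StructuredArrow.w m') I
    rw [← cancel_mono (G.right.map e.hom), ← m.right.naturality, ← NatTrans.naturality]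
    refine congrArg (RF.map e.hom ≫ ·) ((cancel_epi (α.app I)).1 ?_)
    exact (hm m).trans (hm _).symm

/-- Any right derived functor has invertible unit on the deriving class, if some functor does. -/
theorem isIso_app_of_exists (hP : DerivingClass L P) {F : C ⥤ H} {RF₀ : D ⥤ H}
    (α₀ : F ⟶ L ⋙ RF₀) (h₀ : ∀ I, P I → IsIso (α₀.app I)) {RF : D ⥤ H} (α : F ⟶ L ⋙ RF)
    [RF.IsRightDerivedFunctor α W] (I : C) (hI : P I) : IsIso (α.app I) := by
  have := isRightDerivedFunctor_of_isIso (W := W) hP α₀ h₀
  have := h₀ I hI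
  have h : α₀.app I ≫ (Functor.rightDerivedUnique RF₀ RF α₀ α W).hom.app (L.obj I) = α.app I := by
    simp [Functor.rightDerivedUnique]
  rw [← h]
  infer_instance

variable {C' : Type u₄} [Category.{v₄} C'] {D' : Type u₃} [Category.{v₃} D'] {L' : C' ⥤ D'}
  (W' : MorphismProperty C') [L'.IsLocalization W'] {G : C' ⥤ C} {F : C ⥤ C'} (adj : G ⊣ F)
  (G' : D' ⥤ D) (e : L' ⋙ G' ≅ G ⋙ L) {F' : D ⥤ D'} (β : F ⋙ L' ⟶ L ⋙ F')

/-- The derived adjunction when the left adjoint preserves weak equivalences. -/
noncomputable def derivedAdj (hP : DerivingClass L P) (hβ : ∀ I, P I → IsIso (β.app I)) :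
    G' ⊣ F' :=
  haveI : G'.IsLeftDerivedFunctor e.hom W' := Functor.isLeftDerivedFunctor_of_inverts W' G' e
  haveI : F'.IsRightDerivedFunctor β W := isRightDerivedFunctor_of_isIso hP β hβ
  haveI : (G' ⋙ F').IsLeftDerivedFunctor
      ((Functor.associator _ _ _).inv ≫ Functor.whiskerRight e.hom F') W' :=
    Functor.isLeftDerivedFunctor_of_inverts W' (G' ⋙ F')
      ((Functor.associator _ _ _).symm ≪≫ Functor.isoWhiskerRight e F')
  haveI : (F' ⋙ G').IsRightDerivedFunctor
      (Functor.whiskerRight β G' ≫ (Functor.associator _ _ _).hom) W :=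
    isRightDerivedFunctor_of_isIso hP _ fun I hI => by
      have := hβ I hI
      change IsIso (G'.map (β.app I) ≫ 𝟙 _)
      infer_instance
  adj.derived W' W e.hom β

theorem derivedAdj_counit (hP : DerivingClass L P) (hβ : ∀ I, P I → IsIso (β.app I)) (I : C) :
    G'.map (β.app I) ≫ (derivedAdj (W := W) W' adj G' e β hP hβ).counit.app (L.obj I) =
      e.hom.app (F.obj I) ≫ L.map (adj.counit.app I) := by
  simp [derivedAdj]

/-- The derived right adjoint is fully faithful when the counit is invertible on the deriving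
class. -/
theorem derivedAdj_isIso_counit (hP : DerivingClass L P) (hβ : ∀ I, P I → IsIso (β.app I))
    (hc : ∀ I, P I → IsIso (L.map (adj.counit.app I))) :
    IsIso (derivedAdj (W := W) W' adj G' e β hP hβ).counit := by
  rw [NatTrans.isIso_iff_isIso_app]
  intro Y
  obtain ⟨I, hI, ⟨i⟩⟩ := hP.exists_iso (W := W) Y
  rw [NatTrans.isIso_app_iff_of_iso _ i]
  have := hβ I hI
  have := hc I hI
  have h := derivedAdj_counit (W := W) W' adj G' e β hP hβ I
  have : IsIso (G'.map (β.app I) ≫ (derivedAdj (W := W) W' adj G' e β hP hβ).counit.app (L.obj I)) := by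
    rw [h]; infer_instance
  exact IsIso.of_isIso_comp_left (G'.map (β.app I)) _

end Groth.Agent.KInjLib
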