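import Groth.Agent.Lib.KInj.Span
import Mathlib.CategoryTheory.Abelian.CommSq

/-!
The generating monomorphisms with acyclic cokernel, and enlargement of a subcomplex with acyclic
quotient by pushing out one of them.
-/

set_option autoImplicit false

universe v u

open CategoryTheory CategoryTheory.Limits HomologicalComplex

namespace Groth.Agent.KInjLib

variable (A : Type u) [Category.{v} A] [Abelian A] [IsGrothendieckAbelian.{v} A]

/-- Index type of the generators of the small complexes. -/
def idxB (n : ℤ) : Type v := idxAll A n × Sg A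

/-- The index set of the generating monomorphisms with acyclic cokernel. -/
def GenIdx : Type (max u v) :=
  Σ R : Subobject (free (A := A) (idxB A)),
    { T : Subobject (cokernel R.arrow) // (cokernel T.arrow).Acyclic }

instance : Small.{v} (GenIdx A) :=
  inferInstanceAs (Small.{v} (Σ R : Subobject (free (A := A) (idxB A)),
    { T : Subobject (cokernel R.arrow) // (cokernel T.arrow).Acyclic }))

/-- The generating monomorphisms with acyclic cokernel. -/
def generators : MorphismProperty (CochainComplex A ℤ) :=
  MorphismProperty.ofHoms fun x : GenIdx A => x.2.1.arrow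

instance : MorphismProperty.IsSmall.{v} (generators A) := by
  dsimp [generators]
  infer_instance

theorem generators_le_monomorphisms :
    generators A ≤ MorphismProperty.monomorphisms (CochainComplex A ℤ) := by
  rintro _ _ _ ⟨x⟩
  exact inferInstanceAs (Mono _)

variable {A}

theorem exists_lift_family {B Q : CochainComplex A ℤ} (π : B ⟶ Q) [Epi π] (n : ℤ)
    (g : gen A ⟶ Q.X n) :
    ∃ (h : Sg A → (gen A ⟶ B.X n)) (e : Sg A → (gen A ⟶ gen A)),
      (∀ {Z : A} (z : gen A ⟶ Z), (∀ R, e R ≫ z = 0) → z = 0) ∧ ∀ R, e R ≫ g = h R ≫ π.f n := by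
  obtain ⟨P, p, hp, x, hx⟩ := surjective_up_to_refinements_of_epi (π.f n) g
  obtain ⟨t, ht⟩ := exists_refine p
  exact ⟨fun R => t R ≫ x, fun R => t R ≫ p,
    fun z hz => ht z fun R => by rw [← Category.assoc]; exact hz R,
    fun R => by rw [Category.assoc, hx, Category.assoc]⟩

/-- A subcomplex with acyclic quotient which is not everything admits a strictly larger one, obtained
by a pushout of a generating monomorphism. -/
theorem exists_enlarge {B : CochainComplex A ℤ} (W : Subobject B) (hW : W ≠ ⊤)
    (hacy : (cokernel W.arrow).Acyclic) :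
    ∃ (x : GenIdx A) (a : (x.2.1 : CochainComplex A ℤ) ⟶ (W : CochainComplex A ℤ))
      (W' : Subobject B) (h : W < W'),
      (cokernel W'.arrow).Acyclic ∧
        ∀ {I : CochainComplex A ℤ} (t : (W : CochainComplex A ℤ) ⟶ I) (s : cokernel x.1.arrow ⟶ I),
          x.2.1.arrow ≫ s = a ≫ t →
            ∃ t' : (W' : CochainComplex A ℤ) ⟶ I, Subobject.ofLE W W' h.le ≫ t' = t := by
  classical
  let Q := cokernel W.arrow
  let π : B ⟶ Q := cokernel.π W.arrow
  -- a nonzero element of the quotient
  have hQ0 : ¬ IsZero Q := fun hz => hW <| by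
    haveI : Epi W.arrow := Preadditive.epi_of_isZero_cokernel _ hz
    haveI : IsIso W.arrow := isIso_of_mono_of_epi _
    exact Subobject.eq_top_of_isIso_arrow W
  obtain ⟨n₀, z₀, hz₀⟩ : ∃ (n : ℤ) (z : gen A ⟶ Q.X n), z ≠ 0 := by
    by_contra hcon
    push Not at hcon
    exact hQ0 ((IsZero.iff_id_eq_zero _).2 (HomologicalComplex.hom_ext _ _ fun n =>
      eq_zero_of_gen _ fun z => by rw [hcon n z, zero_comp]))
  let a₀ : ∀ n, gen A ⟶ Q.X n := Function.update (fun _ => 0) n₀ z₀
  have hS := acyclic_span_stageAll hacy a₀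
  choose uB e he hue using fun (n : ℤ) (x : idxAll A n) =>
    exists_lift_family π n (stageAll a₀ n x)
  let u : ∀ n, idxB A n → (gen A ⟶ B.X n) := fun n x => uB n x.1 x.2
  let f := spanι u
  let T := Subobject.mk (pullback.snd W.arrow f)
  have hw0 : pullback.snd W.arrow f ≫ f ≫ π = 0 := by
    rw [← Category.assoc, ← pullback.condition, Category.assoc, cokernel.condition, comp_zero]
  let c : cokernel (pullback.snd W.arrow f) ⟶ Q := cokernel.desc _ (f ≫ π) hw0
  have hπc : cokernel.π (pullback.snd W.arrow f) ≫ c = f ≫ π := cokernel.π_desc _ _ _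
  haveI : Mono c := by
    refine Preadditive.mono_of_cancel_zero _ fun {P} y hy => ?_
    obtain ⟨P', p, hp, x, hx⟩ :=
      surjective_up_to_refinements_of_epi (cokernel.π (pullback.snd W.arrow f)) y
    have hxW : (x ≫ f) ≫ cokernel.π W.arrow = 0 := by
      rw [Category.assoc]
      change x ≫ f ≫ π = 0
      rw [← hπc, ← Category.assoc, ← hx, Category.assoc, hy, comp_zero]
    rw [← cancel_epi p, hx, comp_zero, ← pullback.lift_snd (Abelian.monoLift W.arrow (x ≫ f) hxW) x
      (Abelian.monoLift_comp _ _ _), Category.assoc, cokernel.condition, comp_zero]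
  -- the image of the new part in the quotient is the acyclic span
  let E : free (idxB A) ⟶ free (idxAll A) :=
    desc fun n x => e n x.1 x.2 ≫ el (idxAll A) n x.1
  haveI : Epi E := Preadditive.epi_of_cancel_zero _ fun {Z} z hz => hom_ext fun n x => by
    rw [zero_f, comp_zero]
    refine he n x _ fun R => ?_
    have h := congr($(hz).f n)
    rw [comp_f] at h
    have h' := el (idxB A) n (x, R) ≫= h
    rw [el_desc_assoc, zero_f, comp_zero] at h'
    simpa using h'
  have hE : desc u ≫ π = E ≫ desc (stageAll a₀) := hom_ext fun n x => by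
    rw [comp_f, el_desc_assoc, comp_f, el_desc_assoc, Category.assoc, el_desc]
    exact (hue n x.1 x.2).symm
  let P₁ : free (idxB A) ⟶ cokernel (pullback.snd W.arrow f) :=
    cokernel.π (shape u).arrow ≫ cokernel.π (pullback.snd W.arrow f)
  let P₂ : free (idxB A) ⟶ spanObj (stageAll a₀) := E ≫ cokernel.π (shape (stageAll a₀)).arrow
  have sq : CommSq P₂ P₁ (spanι (stageAll a₀)) c := ⟨by
    simp [P₁, P₂, c, f, π_spanι, π_spanι_assoc, hE]⟩
  haveI : StrongEpi P₁ := strongEpi_of_epi _
  haveI : Mono sq.lift := mono_of_mono_fac sq.fac_right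
  haveI : Epi sq.lift := epi_of_epi_fac (show P₁ ≫ sq.lift = P₂ from sq.fac_left)
  haveI : IsIso sq.lift := isIso_of_mono_of_epi _
  have hcok : (cokernel (pullback.snd W.arrow f)).Acyclic := acyclic_of_iso (asIso sq.lift).symm hS
  have hT : (cokernel T.arrow).Acyclic := acyclic_of_iso
    ((cokernelEpiComp (Subobject.underlyingIso (pullback.snd W.arrow f)).hom _).symm ≪≫
      cokernelIsoOfEq (Subobject.underlyingIso_hom_comp_eq_mk _)) hcok
  -- the pushout
  let p' : pushout (pullback.fst W.arrow f) (pullback.snd W.arrow f) ⟶ B :=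
    pushout.desc W.arrow f pullback.condition
  have hp'l : pushout.inl _ _ ≫ p' = W.arrow := pushout.inl_desc _ _ _
  have hp'r : pushout.inr _ _ ≫ p' = f := pushout.inr_desc _ _ _
  haveI : Mono p' := (IsPushout.of_hasPushout _ _).mono_of_isPullback_of_mono
    (IsPullback.of_hasPullback W.arrow f) p' hp'l hp'r
  have hle : W ≤ Subobject.mk p' :=
    Subobject.le_mk_of_comm (pushout.inl _ _) hp'l
  have hlt : W < Subobject.mk p' := lt_of_le_not_ge hle fun hge => hz₀ <| by
    have h1 : f ≫ π = 0 := by
      have h2 : f = (pushout.inr _ _ ≫ Subobject.ofMkLE p' W hge) ≫ W.arrow := by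
        rw [Category.assoc, Subobject.ofMkLE_arrow, hp'r]
      rw [h2, Category.assoc, cokernel.condition, comp_zero]
    have h3 : desc (stageAll a₀) = 0 := by
      rw [← cancel_epi E, ← hE, comp_zero, ← π_spanι u, Category.assoc, h1, comp_zero]
    have h4 := el_desc (stageAll a₀) n₀ ⟨0, PUnit.unit⟩
    rw [h3, zero_f, comp_zero] at h4
    have h5 : a₀ n₀ = 0 := h4.symm
    simpa [a₀] using h5
  -- the new quotient
  have hQ' : (cokernel (Subobject.mk p').arrow).Acyclic := by
    have h₃ : (cokernel c).Acyclic :=
      acyclic_X₃ (S := ShortComplex.mk c (cokernel.π c) (cokernel.condition c))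
        { exact := ShortComplex.exact_of_g_is_cokernel _ (cokernelIsCokernel c) } hcok hacy
    let g1 : cokernel p' ⟶ cokernel c := cokernel.desc p' (π ≫ cokernel.π c) (pushout.hom_ext
      (by
        rw [comp_zero, ← Category.assoc, hp'l, ← Category.assoc]
        exact (congrArg (· ≫ cokernel.π c) (cokernel.condition W.arrow)).trans zero_comp) (by
        rw [comp_zero, ← Category.assoc, hp'r, ← Category.assoc, ← hπc, Category.assoc,
          cokernel.condition, comp_zero]))
    have hW0 : W.arrow ≫ cokernel.π p' = 0 :=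
      (congrArg (· ≫ cokernel.π p') hp'l.symm).trans (by simp)
    have hf0 : f ≫ cokernel.π p' = 0 := (congrArg (· ≫ cokernel.π p') hp'r.symm).trans (by simp)
    let g2' : Q ⟶ cokernel p' := cokernel.desc W.arrow (cokernel.π p') hW0
    have hg2' : π ≫ g2' = cokernel.π p' := cokernel.π_desc _ _ _
    let g2 : cokernel c ⟶ cokernel p' := cokernel.desc c g2' (by
      rw [← cancel_epi (cokernel.π (pullback.snd W.arrow f)), comp_zero, ← Category.assoc, hπc,
        Category.assoc, hg2', hf0])
    have e1 : cokernel.π p' ≫ g1 = π ≫ cokernel.π c := cokernel.π_desc _ _ _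
    have e2 : cokernel.π c ≫ g2 = g2' := cokernel.π_desc _ _ _
    let iso : cokernel p' ≅ cokernel c :=
      { hom := g1
        inv := g2
        hom_inv_id := coequalizer.hom_ext (by
          change cokernel.π p' ≫ g1 ≫ g2 = cokernel.π p' ≫ 𝟙 _
          rw [reassoc_of% e1, e2, hg2', Category.comp_id])
        inv_hom_id := coequalizer.hom_ext (by
          change cokernel.π c ≫ g2 ≫ g1 = cokernel.π c ≫ 𝟙 _
          rw [reassoc_of% e2, Category.comp_id]
          refine (cancel_epi π).1 ?_
          rw [reassoc_of% hg2', e1]) }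
    exact acyclic_of_iso (iso.symm ≪≫
      (cokernelEpiComp (Subobject.underlyingIso p').hom _).symm ≪≫
      cokernelIsoOfEq (Subobject.underlyingIso_hom_comp_eq_mk _)) h₃
  refine ⟨⟨shape u, T, hT⟩, (Subobject.underlyingIso _).hom ≫ pullback.fst W.arrow f,
    Subobject.mk p', hlt, hQ', fun {I} t s hts => ?_⟩
  have hts' : pullback.fst W.arrow f ≫ t = pullback.snd W.arrow f ≫ s := by
    rw [← cancel_epi (Subobject.underlyingIso (pullback.snd W.arrow f)).hom, ← Category.assoc,
      ← Category.assoc, Subobject.underlyingIso_hom_comp_eq_mk]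
    exact hts.symm
  refine ⟨(Subobject.underlyingIso p').hom ≫ pushout.desc t s hts', ?_⟩
  have hinl : Subobject.ofLE W (Subobject.mk p') hlt.le ≫ (Subobject.underlyingIso p').hom =
      pushout.inl _ _ := by
    rw [← cancel_mono p', Category.assoc, Subobject.underlyingIso_hom_comp_eq_mk,
      Subobject.ofLE_arrow, hp'l]
  rw [← Category.assoc, hinl, pushout.inl_desc]

end Groth.Agent.KInjLib
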