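import Groth.Agent.Lib.KInj.Enlarge
import Mathlib.Algebra.Homology.HomotopyCategory.Pretriangulated
import Mathlib.Order.Zorn

/-!
Complexes with the extension property along monomorphisms with acyclic cokernel.
-/

set_option autoImplicit false

universe v u

open CategoryTheory CategoryTheory.Limits HomologicalComplex

namespace Groth.Agent.KInjLib

section

variable {A : Type u} [Category.{v} A] [Abelian A]

/-- The extension property along monomorphisms with acyclic cokernel. -/
def Extends (I : CochainComplex A ℤ) : Prop :=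
  ∀ ⦃X B : CochainComplex A ℤ⦄ (i : X ⟶ B) [Mono i], (cokernel i).Acyclic →
    ∀ t : X ⟶ I, ∃ t' : B ⟶ I, i ≫ t' = t

theorem acyclic_cokernel_of_mono {X B : CochainComplex A ℤ} (i : X ⟶ B) [Mono i]
    (hX : X.Acyclic) (hB : B.Acyclic) : (cokernel i).Acyclic :=
  acyclic_X₃ (S := ShortComplex.mk i (cokernel.π i) (cokernel.condition i))
    { exact := ShortComplex.exact_of_g_is_cokernel _ (cokernelIsCokernel i) } hX hB

theorem Extends.isKInjective {I : CochainComplex A ℤ} (hI : Extends I) : I.IsKInjective := by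
  refine ⟨fun {K} f hK => ?_⟩
  haveI : Mono (CochainComplex.mappingCone.inr (𝟙 K)) :=
    ⟨fun {Z} g h e => HomologicalComplex.hom_ext _ _ fun p => by
      have := congr($(e).f p ≫ (CochainComplex.mappingCone.snd (𝟙 K)).v p p (add_zero p))
      simpa using this⟩
  obtain ⟨t, ht⟩ := hI (CochainComplex.mappingCone.inr (𝟙 K))
    (acyclic_cokernel_of_mono _ hK
      (acyclic_of_contractible (CochainComplex.mappingCone.homotopyToZeroOfId K))) f
  exact ⟨(Homotopy.ofEq (by simp [ht])).trans
    ((((CochainComplex.mappingCone.homotopyToZeroOfId K).compLeft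
      (CochainComplex.mappingCone.inr (𝟙 K))).compRight t).trans (Homotopy.ofEq (by simp)))⟩

theorem Extends.injective {I : CochainComplex A ℤ} (hI : Extends I) (n : ℤ) :
    Injective (I.X n) := by
  refine ⟨fun {X Y} g m hm => ?_⟩
  let i : double (𝟙 X) (c := ComplexShape.up ℤ) (i₀ := n) (i₁ := n + 1) rfl ⟶
      double (𝟙 Y) (c := ComplexShape.up ℤ) (i₀ := n) (i₁ := n + 1) rfl :=
    mkHomFromDouble _ (by omega) (m ≫ (doubleXIso₀ (𝟙 Y) _).inv)
      (m ≫ (doubleXIso₁ (𝟙 Y) _ (by omega)).inv) (by simp [double_d _ _ (by omega : n ≠ n + 1)])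
      (fun k hk => by
        rw [double_d_eq_zero₀ _ _ _ _ (by omega : n + 1 ≠ n), comp_zero])
  haveI : Mono i := Preadditive.mono_of_cancel_zero _ fun {Z} y hy => by
    refine to_double_hom_ext ?_ ?_
    · have h := congr($(hy).f n)
      simpa [i, ← cancel_mono m, ← cancel_mono (doubleXIso₀ (𝟙 Y) (c := ComplexShape.up ℤ)
        (i₀ := n) (i₁ := n + 1) rfl).inv, ← cancel_mono (doubleXIso₀ (𝟙 X) (c := ComplexShape.up ℤ)
        (i₀ := n) (i₁ := n + 1) rfl).hom] using h
    · have h := congr($(hy).f (n + 1))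
      simpa [i, ← cancel_mono m, ← cancel_mono (doubleXIso₁ (𝟙 Y) (c := ComplexShape.up ℤ)
        (i₀ := n) (i₁ := n + 1) rfl (by omega)).inv, ← cancel_mono (doubleXIso₁ (𝟙 X)
        (c := ComplexShape.up ℤ) (i₀ := n) (i₁ := n + 1) rfl (by omega)).hom] using h
  let t : double (𝟙 X) (c := ComplexShape.up ℤ) (i₀ := n) (i₁ := n + 1) rfl ⟶ I :=
    mkHomFromDouble _ (by omega) g (g ≫ I.d n (n + 1)) (by simp) (by simp)
  obtain ⟨t', ht'⟩ := hI i (acyclic_cokernel_of_mono _ (acyclic_double_id X n)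
    (acyclic_double_id Y n)) t
  refine ⟨(doubleXIso₀ (𝟙 Y) (c := ComplexShape.up ℤ) (i₀ := n) (i₁ := n + 1) rfl).inv ≫ t'.f n, ?_⟩
  have h := congr($(ht').f n)
  simpa [i, t] using h

end

variable {A : Type u} [Category.{v} A] [Abelian A] [IsGrothendieckAbelian.{v} A]

section Zorn

variable {X B : CochainComplex A ℤ} (i : X ⟶ B) [Mono i] {I : CochainComplex A ℤ} (t : X ⟶ I)

/-- A partial extension of `t`. -/
structure PartialExt where
  /-- the domain -/
  W : Subobject B
  hle : Subobject.mk i ≤ W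
  acy : (cokernel W.arrow).Acyclic
  /-- the extension -/
  g : (W : CochainComplex A ℤ) ⟶ I
  hg : Subobject.ofMkLE i W hle ≫ g = t

instance : Preorder (PartialExt i t) where
  le p q := ∃ h : p.W ≤ q.W, Subobject.ofLE _ _ h ≫ q.g = p.g
  le_refl p := ⟨le_rfl, by simp⟩
  le_trans p q r := fun ⟨h₁, e₁⟩ ⟨h₂, e₂⟩ => ⟨h₁.trans h₂, by
    rw [← Subobject.ofLE_comp_ofLE _ _ _ h₁ h₂, Category.assoc, e₂, e₁]⟩

variable {i t}

theorem compat_of_chain {c : Set (PartialExt i t)} (hc : IsChain (· ≤ ·) c) {x y : PartialExt i t}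
    (hx : x ∈ c) (hy : y ∈ c) (h : x.W ≤ y.W) : Subobject.ofLE _ _ h ≫ y.g = x.g := by
  rcases hc.total hx hy with ⟨h', e⟩ | ⟨h', e⟩
  · exact e
  · rw [← e, ← Category.assoc, Subobject.ofLE_comp_ofLE, Subobject.ofLE_refl, Category.id_comp]

theorem exists_upperBound (c : Set (PartialExt i t)) (hc : IsChain (· ≤ ·) c) (hne : c.Nonempty) :
    BddAbove c := by
  let S : Set (Subobject B) := PartialExt.W '' c
  let w : Shrink.{v} S → Subobject B := fun j => ((equivShrink.{v} S).symm j).1
  have hw : ∀ j, ∃ p ∈ c, p.W = w j := fun j => ((equivShrink.{v} S).symm j).2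
  choose p hp hpw using hw
  letI : Preorder (Shrink.{v} S) := Preorder.lift fun j => (p j).W
  letI : SmallCategory (Shrink.{v} S) := Preorder.smallCategory _
  haveI : Nonempty (Shrink.{v} S) := ⟨equivShrink.{v} S ⟨_, hne.choose, hne.choose_spec, rfl⟩⟩
  haveI : IsDirectedOrder (Shrink.{v} S) := ⟨fun j j' => by
    rcases hc.total (hp j) (hp j') with h | h
    · exact ⟨j', h.1, le_rfl⟩
    · exact ⟨j, le_rfl, h.1⟩⟩
  have hle' : ∀ {j j' : Shrink.{v} S}, (j ⟶ j') → (p j).W ≤ (p j').W :=
    fun {j j'} f => (leOfHom f : j ≤ j')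
  let F : Shrink.{v} S ⥤ MonoOver B :=
    { obj := fun j => MonoOver.mk (p j).W.arrow
      map := fun {j j'} f => MonoOver.homMk (Subobject.ofLE _ _ (hle' f)) (Subobject.ofLE_arrow _)
      map_id := by intros; exact Subsingleton.elim _ _
      map_comp := by intros; exact Subsingleton.elim _ _ }
  let G := F ⋙ MonoOver.forget _ ⋙ Over.forget _
  let f : colimit G ⟶ B := colimit.desc G (Cocone.mk B
    { app := fun j => (p j).W.arrow
      naturality := fun j j' φ => by
        change Subobject.ofLE _ _ (hle' φ) ≫ (p j').W.arrow = (p j).W.arrow ≫ 𝟙 _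
        simp })
  let ι' : ∀ j, ((p j).W : CochainComplex A ℤ) ⟶ colimit G := fun j => colimit.ι G j
  have hext : ∀ {Z : CochainComplex A ℤ} (a b : colimit G ⟶ Z), (∀ j, ι' j ≫ a = ι' j ≫ b) → a = b :=
    fun a b h => colimit.hom_ext h
  have hf : ∀ j, ι' j ≫ f = (p j).W.arrow := fun j => colimit.ι_desc _ j
  haveI : Mono f := IsGrothendieckAbelian.mono_of_isColimit_monoOver F (colimit.isColimit G) f hf
  let g : colimit G ⟶ I := colimit.desc G (Cocone.mk I
    { app := fun j => (p j).g
      naturality := fun j j' φ => by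
        change Subobject.ofLE _ _ (hle' φ) ≫ (p j').g = (p j).g ≫ 𝟙 _
        rw [compat_of_chain hc (hp j) (hp j') (hle' φ), Category.comp_id] })
  have hg : ∀ j, ι' j ≫ g = (p j).g := fun j => colimit.ι_desc _ j
  -- the quotient by the union is the colimit of the quotients
  let Qf : Shrink.{v} S ⥤ CochainComplex A ℤ :=
    { obj := fun j => cokernel (p j).W.arrow
      map := fun {j j'} φ => cokernel.desc _ (cokernel.π (p j').W.arrow) (by
        rw [← Subobject.ofLE_arrow (hle' φ), Category.assoc, cokernel.condition, comp_zero])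
      map_id := fun j => coequalizer.hom_ext (by
        change cokernel.π (p j).W.arrow ≫ cokernel.desc _ (cokernel.π (p j).W.arrow) _ =
          cokernel.π (p j).W.arrow ≫ 𝟙 _
        rw [cokernel.π_desc, Category.comp_id])
      map_comp := fun {j j' j''} φ ψ => coequalizer.hom_ext (by
        change cokernel.π (p j).W.arrow ≫ cokernel.desc _ (cokernel.π (p j'').W.arrow) _ =
          cokernel.π (p j).W.arrow ≫ cokernel.desc _ (cokernel.π (p j').W.arrow) _ ≫
            cokernel.desc _ (cokernel.π (p j'').W.arrow) _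
        rw [cokernel.π_desc, cokernel.π_desc_assoc, cokernel.π_desc]) }
  let cQ : Cocone Qf := Cocone.mk (cokernel f)
    { app := fun j => cokernel.desc _ (cokernel.π f) (by
        rw [← hf j, Category.assoc, cokernel.condition, comp_zero])
      naturality := fun j j' φ => coequalizer.hom_ext (by simp [Qf]) }
  have hind : ∀ (s : Cocone Qf) (j j' : Shrink.{v} S),
      cokernel.π (p j).W.arrow ≫ s.ι.app j = cokernel.π (p j').W.arrow ≫ s.ι.app j' := fun s j j' => by
    obtain ⟨k, hk, hk'⟩ := exists_ge_ge j j'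
    rw [← s.w (homOfLE hk), ← s.w (homOfLE hk')]
    simp [Qf]
  have h0 : ∀ (s : Cocone Qf), f ≫ cokernel.π (p (Classical.arbitrary _)).W.arrow ≫
      s.ι.app (Classical.arbitrary _) = 0 := fun s => hext _ _ fun j => by
    rw [comp_zero, hind s _ j, ← Category.assoc, hf, ← Category.assoc, cokernel.condition, zero_comp]
  have hcQ : IsColimit cQ :=
    { desc := fun s => cokernel.desc f _ (h0 s)
      fac := fun s j => coequalizer.hom_ext (by
        change cokernel.π _ ≫ cokernel.desc _ (cokernel.π f) _ ≫ cokernel.desc f _ _ =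
          cokernel.π (p j).W.arrow ≫ s.ι.app j
        rw [cokernel.π_desc_assoc, cokernel.π_desc, hind s _ j])
      uniq := fun s m hm => coequalizer.hom_ext (by
        change cokernel.π f ≫ m = cokernel.π f ≫ cokernel.desc f _ (h0 s)
        rw [cokernel.π_desc, ← hm (Classical.arbitrary _)]
        simp [cQ]) }
  have hQ : (cokernel f).Acyclic := acyclic_of_isColimit_of_acyclic Qf hcQ fun j => (p j).acy
  have hW : (cokernel (Subobject.mk f).arrow).Acyclic := acyclic_of_iso
    ((cokernelEpiComp (Subobject.underlyingIso f).hom f).symm ≪≫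
      cokernelIsoOfEq (Subobject.underlyingIso_hom_comp_eq_mk f)) hQ
  have hle : ∀ j, (p j).W ≤ Subobject.mk f := fun j => Subobject.le_mk_of_comm _ (hf j)
  have hlg : ∀ j, Subobject.ofLE _ _ (hle j) ≫ (Subobject.underlyingIso f).hom = ι' j :=
    fun j => by
      rw [← cancel_mono f, Category.assoc, Subobject.underlyingIso_hom_comp_eq_mk,
        Subobject.ofLE_arrow, hf]
  let j₀ : Shrink.{v} S := Classical.arbitrary _
  refine ⟨⟨Subobject.mk f, (p j₀).hle.trans (hle j₀), hW, (Subobject.underlyingIso f).hom ≫ g, ?_⟩,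
    fun q hq => ?_⟩
  · have e : Subobject.ofMkLE i _ ((p j₀).hle.trans (hle j₀)) =
        Subobject.ofMkLE i _ (p j₀).hle ≫ Subobject.ofLE _ _ (hle j₀) := by
      rw [Subobject.ofMkLE_comp_ofLE]
    rw [e, Category.assoc, ← Category.assoc (Subobject.ofLE _ _ (hle j₀)), hlg, hg, (p j₀).hg]
  · let j := equivShrink.{v} S ⟨q.W, q, hq, rfl⟩
    have hj : q.W ≤ (p j).W := by rw [hpw]; simp [w, j]
    refine ⟨hj.trans (hle j), ?_⟩
    rw [← Subobject.ofLE_comp_ofLE _ _ _ hj (hle j), Category.assoc,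
      ← Category.assoc (Subobject.ofLE _ _ (hle j)), hlg, hg, compat_of_chain hc hq (hp j) hj]

end Zorn

/-- The extension property along the generating monomorphisms implies the general one. -/
theorem extends_of_generators {I : CochainComplex A ℤ}
    (h : ∀ (x : GenIdx A) (a : (x.2.1 : CochainComplex A ℤ) ⟶ I),
      ∃ s : cokernel x.1.arrow ⟶ I, x.2.1.arrow ≫ s = a) : Extends I := by
  intro X B i _ hi t
  haveI : Nonempty (PartialExt i t) := ⟨⟨Subobject.mk i, le_rfl, acyclic_of_iso
    ((cokernelEpiComp (Subobject.underlyingIso i).hom i).symm ≪≫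
      cokernelIsoOfEq (Subobject.underlyingIso_hom_comp_eq_mk i)) hi,
    (Subobject.underlyingIso i).hom ≫ t, by
      have e : Subobject.ofMkLE i (Subobject.mk i) le_rfl ≫ (Subobject.underlyingIso i).hom = 𝟙 X := by
        rw [← cancel_mono i, Category.assoc, Subobject.underlyingIso_hom_comp_eq_mk,
          Subobject.ofMkLE_arrow, Category.id_comp]
      rw [← Category.assoc, e, Category.id_comp]⟩⟩
  obtain ⟨m, hm⟩ := zorn_le_nonempty (exists_upperBound (i := i) (t := t))
  have htop : m.W = ⊤ := by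
    by_contra hne
    obtain ⟨x, a, W', hlt, hacy, hext⟩ := exists_enlarge m.W hne m.acy
    obtain ⟨s, hs⟩ := h x (a ≫ m.g)
    obtain ⟨t', ht'⟩ := hext m.g s hs
    have hmq : m ≤ ⟨W', m.hle.trans hlt.le, hacy, t', by
        rw [← Subobject.ofMkLE_comp_ofLE i m.W W' m.hle hlt.le, Category.assoc, ht', m.hg]⟩ :=
      ⟨hlt.le, ht'⟩
    exact hlt.not_ge (hm hmq).1
  haveI : IsIso m.W.arrow := (Subobject.isIso_arrow_iff_eq_top _).2 htop
  have e : i ≫ inv m.W.arrow = Subobject.ofMkLE i m.W m.hle :=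
    (IsIso.comp_inv_eq m.W.arrow).2 (Subobject.ofMkLE_arrow m.hle).symm
  exact ⟨inv m.W.arrow ≫ m.g, by rw [← Category.assoc, e, m.hg]⟩

end Groth.Agent.KInjLib
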