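import Mathlib.Algebra.Homology.GrothendieckAbelian
import Mathlib.Algebra.Homology.Double
import Mathlib.Algebra.Homology.HomologicalComplexAbelian
import Mathlib.CategoryTheory.Abelian.GrothendieckCategory.Subobject
import Mathlib.CategoryTheory.Abelian.GrothendieckCategory.EnoughInjectives

/-!
Free cochain complexes on families of elements, and small families of refinements, in a
Grothendieck abelian category.
-/

set_option autoImplicit false

universe v u

open CategoryTheory CategoryTheory.Limits

namespace Groth.Agent.KInjLib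

variable {A : Type u} [Category.{v} A] [Abelian A] [IsGrothendieckAbelian.{v} A]

variable (A) in
/-- A separator. -/
noncomputable abbrev gen : A := separator A

theorem eq_zero_of_gen {X Y : A} (f : X ⟶ Y) (h : ∀ z : gen A ⟶ X, z ≫ f = 0) : f = 0 := by
  refine (isSeparator_separator A).def _ _ fun z => ?_
  rw [h, comp_zero]

variable (A) in
/-- Small index type for refinements of maps out of the separator. -/
abbrev Sg : Type v := Shrink.{v} (Subobject (gen A))

theorem exists_refine {P : A} (p : P ⟶ gen A) [Epi p] :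
    ∃ t : Sg A → (gen A ⟶ P), ∀ {Z : A} (z : gen A ⟶ Z), (∀ R, t R ≫ p ≫ z = 0) → z = 0 := by
  classical
  refine ⟨fun R => if h : ∃ t : gen A ⟶ P, imageSubobject (t ≫ p) = (equivShrink _).symm R
    then h.choose else 0, fun {Z} z hz => ?_⟩
  rw [← cancel_epi p, comp_zero]
  refine eq_zero_of_gen _ fun t => ?_
  have hex : ∃ t' : gen A ⟶ P, imageSubobject (t' ≫ p) =
      (equivShrink _).symm (equivShrink _ (imageSubobject (t ≫ p))) := ⟨t, by simp⟩
  have h := hz (equivShrink _ (imageSubobject (t ≫ p)))
  simp only [dif_pos hex] at h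
  have he : imageSubobject (hex.choose ≫ p) = imageSubobject (t ≫ p) := by
    simpa using hex.choose_spec
  have h0 : (imageSubobject (hex.choose ≫ p)).arrow ≫ z = 0 := by
    rw [← cancel_epi (factorThruImageSubobject (hex.choose ≫ p)), imageSubobject_arrow_comp_assoc,
      comp_zero, Category.assoc]
    exact h
  have h1 : (imageSubobject (t ≫ p)).arrow ≫ z = 0 := he ▸ h0
  rw [← Category.assoc, ← imageSubobject_arrow_comp (t ≫ p), Category.assoc, h1, comp_zero]

variable (A) in
/-- The complex corepresenting `K ↦ (gen A ⟶ K.X n)`. -/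
noncomputable abbrev disc (n : ℤ) : CochainComplex A ℤ :=
  HomologicalComplex.double (𝟙 (gen A)) (c := ComplexShape.up ℤ) (i₀ := n) (i₁ := n + 1) rfl

/-- Elements of a complex in degree `n` are the maps from `disc A n`. -/
noncomputable def discEquiv (n : ℤ) (K : CochainComplex A ℤ) :
    (disc A n ⟶ K) ≃ (gen A ⟶ K.X n) :=
  (HomologicalComplex.evalCompCoyonedaCorepresentableByDoubleId
    (c := ComplexShape.up ℤ) (i₀ := n) (i₁ := n + 1) rfl (by omega) (gen A)).homEquiv

theorem discEquiv_apply {n : ℤ} {K : CochainComplex A ℤ} (f : disc A n ⟶ K) :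
    discEquiv n K f =
      (HomologicalComplex.doubleXIso₀ (𝟙 (gen A)) (c := ComplexShape.up ℤ) (i₀ := n) (i₁ := n + 1)
        rfl).inv ≫ f.f n :=
  rfl

theorem discEquiv_comp {n : ℤ} {K L : CochainComplex A ℤ} (f : disc A n ⟶ K) (g : K ⟶ L) :
    discEquiv n L (f ≫ g) = discEquiv n K f ≫ g.f n := by
  simp [discEquiv_apply]

theorem discEquiv_symm_comp {n : ℤ} {K L : CochainComplex A ℤ} (z : gen A ⟶ K.X n) (g : K ⟶ L) :
    (discEquiv n K).symm z ≫ g = (discEquiv n L).symm (z ≫ g.f n) := by
  apply (discEquiv n L).injective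
  rw [discEquiv_comp]
  simp

variable (ι : ℤ → Type v)

/-- The free complex on one generator in degree `n` for each element of `ι n`. -/
noncomputable abbrev free : CochainComplex A ℤ := ∐ fun x : Σ n, ι n => disc A x.1

/-- The inclusion of the summand with a given index. -/
noncomputable def inc (n : ℤ) (a : ι n) : disc A n ⟶ free (A := A) ι :=
  Sigma.ι (fun x : Σ n, ι n => disc A x.1) ⟨n, a⟩

/-- The generator with a given index. -/
noncomputable def el (n : ℤ) (a : ι n) : gen A ⟶ (free (A := A) ι).X n :=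
  discEquiv n _ (inc ι n a)

variable {ι}

/-- The map out of a free complex. -/
noncomputable def desc {K : CochainComplex A ℤ} (u : ∀ n, ι n → (gen A ⟶ K.X n)) : free ι ⟶ K :=
  Sigma.desc fun x => (discEquiv x.1 K).symm (u x.1 x.2)

@[reassoc]
theorem el_desc {K : CochainComplex A ℤ} (u : ∀ n, ι n → (gen A ⟶ K.X n)) (n : ℤ) (a : ι n) :
    el ι n a ≫ (desc u).f n = u n a := by
  have h : inc ι n a ≫ desc u = (discEquiv n K).symm (u n a) :=
    Sigma.ι_desc (fun x : Σ n, ι n => (discEquiv x.1 K).symm (u x.1 x.2)) ⟨n, a⟩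
  rw [el, ← discEquiv_comp, h, Equiv.apply_symm_apply]

theorem hom_ext {K : CochainComplex A ℤ} {f g : free ι ⟶ K}
    (h : ∀ n a, el ι n a ≫ f.f n = el ι n a ≫ g.f n) : f = g := by
  refine Sigma.hom_ext _ _ fun x => (discEquiv x.1 K).injective ?_
  exact (discEquiv_comp _ f).trans ((h x.1 x.2).trans (discEquiv_comp _ g).symm)

theorem desc_comp {K L : CochainComplex A ℤ} (u : ∀ n, ι n → (gen A ⟶ K.X n)) (f : K ⟶ L) :
    desc u ≫ f = desc fun n a => u n a ≫ f.f n :=
  hom_ext fun n a => by
    rw [HomologicalComplex.comp_f, el_desc_assoc, el_desc]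

theorem factors_desc {K : CochainComplex A ℤ} (W : Subobject K) (u : ∀ n, ι n → (gen A ⟶ K.X n))
    (h : ∀ n a, ∃ w : gen A ⟶ (W : CochainComplex A ℤ).X n, w ≫ W.arrow.f n = u n a) :
    W.Factors (desc u) := by
  choose w hw using h
  exact (Subobject.factors_iff _ _).2 ⟨desc w, by
    change desc w ≫ W.arrow = desc u
    exact hom_ext fun n a => by rw [HomologicalComplex.comp_f, el_desc_assoc, el_desc, hw]⟩

end Groth.Agent.KInjLib
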