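import Groth.Agent.Lib.KInj.Derived
import Groth.Agent.Lib.KInj.Detect
import Mathlib.Algebra.Homology.DerivedCategory.Fractions
import Mathlib.CategoryTheory.Limits.Preserves.Shapes.Kernels

/-!
Small complexes: refinement of roofs with small source.
-/

set_option autoImplicit false

universe w v u

open CategoryTheory CategoryTheory.Limits HomologicalComplex

namespace Groth.Agent.KInjLib

variable {A : Type u} [Category.{v} A] [Abelian A] [IsGrothendieckAbelian.{v} A]

variable (A) in
/-- All elements of a free complex, used as a starting family. -/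
def kerIdx (ι : ℤ → Type v) (n : ℤ) : Type v := gen A ⟶ (free (A := A) ι).X n

variable (A) in
/-- The shapes of small complexes of a given stage. -/
def szIdx : ℕ → ℤ → Type v
  | 0 => fun _ => PUnit
  | k + 1 => fun n => szIdx k n ⊕ idxAllFrom A (kerIdx A (szIdx k)) n

/-- A complex which is small of a given stage. -/
def IsSmallCx (k : ℕ) (S : CochainComplex A ℤ) : Prop :=
  ∃ φ : free (A := A) (szIdx A k) ⟶ S, Epi φ

theorem IsSmallCx.quotient {k : ℕ} {S T : CochainComplex A ℤ} (h : IsSmallCx k S) (p : S ⟶ T)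
    [Epi p] : IsSmallCx k T := by
  obtain ⟨φ, hφ⟩ := h
  exact ⟨φ ≫ p, epi_comp φ p⟩

theorem isSmallCx_cokernel (k : ℕ) (R : Subobject (free (A := A) (szIdx A k))) :
    IsSmallCx k (cokernel R.arrow) :=
  ⟨cokernel.π R.arrow, inferInstance⟩

theorem IsSmallCx.exists_shape {k : ℕ} {S : CochainComplex A ℤ} (h : IsSmallCx k S) :
    ∃ R : Subobject (free (A := A) (szIdx A k)), Nonempty (cokernel R.arrow ≅ S) := by
  obtain ⟨φ, hφ⟩ := h
  let c : cokernel (kernelSubobject φ).arrow ⟶ S :=
    cokernel.desc _ φ (kernelSubobject_arrow_comp φ)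
  haveI : Mono c := by
    refine Preadditive.mono_of_cancel_zero _ fun {P} y hy => ?_
    obtain ⟨P', e, he, x, hx⟩ :=
      surjective_up_to_refinements_of_epi (cokernel.π (kernelSubobject φ).arrow) y
    have hxd : x ≫ φ = 0 := by
      rw [← cokernel.π_desc (kernelSubobject φ).arrow φ (kernelSubobject_arrow_comp φ),
        ← Category.assoc, ← hx, Category.assoc, hy, comp_zero]
    rw [← cancel_epi e, hx, comp_zero, ← Subobject.factorThru_arrow _ x
      (kernelSubobject_factors φ x hxd), Category.assoc, cokernel.condition, comp_zero]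
  haveI : Epi c := epi_of_epi_fac (cokernel.π_desc (kernelSubobject φ).arrow φ _)
  haveI := isIso_of_mono_of_epi c
  exact ⟨_, ⟨asIso c⟩⟩

theorem acyclic_free (ι : ℤ → Type v) : (free (A := A) ι).Acyclic := by
  refine acyclic_of_isColimit_of_acyclic (Discrete.functor fun x : Σ n, ι n => disc A x.1)
    (colimit.isColimit _) fun x => acyclic_double_id (gen A) x.as.1

theorem acyclic_kernel_of_quasiIso {X Y : CochainComplex A ℤ} (f : X ⟶ Y) [Epi f]
    [_root_.QuasiIso f] : (kernel f).Acyclic :=
  ShortComplex.ShortExact.acyclic_X₁ (S := ShortComplex.mk (kernel.ι f) f (kernel.condition f))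
    { exact := ShortComplex.exact_of_f_is_kernel _ (kernelIsKernel f) } ‹_›

theorem quasiIso_of_shortExact {S : ShortComplex (CochainComplex A ℤ)} (hS : S.ShortExact)
    (h : S.X₁.Acyclic) : _root_.QuasiIso S.g := by
  rw [quasiIso_iff]
  intro n
  rw [quasiIsoAt_iff_isIso_homologyMap]
  have hz : ∀ k, IsZero (S.X₁.homology k) := fun k => (exactAt_iff_isZero_homology _ k).1 (h k)
  haveI := (hS.homology_exact₂ n).mono_g ((hz n).eq_of_src _ _)
  haveI := (hS.homology_exact₃ n (n + 1) (by simp)).epi_f ((hz (n + 1)).eq_of_tgt _ _)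
  exact isIso_of_mono_of_epi _

/-- A quasi-isomorphism onto a small complex restricts to one on a small complex. -/
theorem exists_small_subobject {k : ℕ} {E P : CochainComplex A ℤ}
    (u : free (A := A) (szIdx A k) ⟶ E) [Epi u] (f : P ⟶ E)
    (r₀ : free (A := A) (szIdx A k) ⟶ P) (hr₀ : r₀ ≫ f = u) [_root_.QuasiIso f] :
    ∃ (S : CochainComplex A ℤ) (m : S ⟶ P), IsSmallCx (k + 1) S ∧ _root_.QuasiIso (m ≫ f) := by
  classical
  haveI : Epi f := epi_of_epi_fac hr₀
  let K := kernel f
  have hK : K.Acyclic := acyclic_kernel_of_quasiIso f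
  have hSC : (ShortComplex.mk (kernel.ι f) f (kernel.condition f)).ShortExact :=
    { exact := ShortComplex.exact_of_f_is_kernel _ (kernelIsKernel f) }
  have hlift : ∀ n (x : kerIdx A (szIdx A k) n), x ≫ u.f n = 0 →
      ∃ a : gen A ⟶ K.X n, a ≫ (kernel.ι f).f n = x ≫ r₀.f n := fun n x hx => by
    have he := hSC.map_of_exact (eval A (ComplexShape.up ℤ) n)
    haveI := he.mono_f
    have h0 : ((x : gen A ⟶ _) ≫ r₀.f n) ≫ f.f n = 0 :=
      (Category.assoc _ _ _).trans ((congrArg (x ≫ ·) ((comp_f r₀ f n).symm.trans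
        (congrArg (fun φ => HomologicalComplex.Hom.f φ n) hr₀))).trans hx)
    exact ⟨he.exact.lift (x ≫ r₀.f n) h0, he.exact.lift_f (x ≫ r₀.f n) h0⟩
  let a : ∀ n, kerIdx A (szIdx A k) n → (gen A ⟶ K.X n) := fun n x =>
    if h : x ≫ u.f n = 0 then (hlift n x h).choose else 0
  have hT := acyclic_span_stageAllFrom hK a
  let w : ∀ n, szIdx A (k + 1) n → (gen A ⟶ P.X n) := fun n x => match x with
    | .inl i => el (szIdx A k) n i ≫ r₀.f n
    | .inr j => stageAllFrom a n j ≫ (kernel.ι f).f n
  let m := spanι w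
  let σ := m ≫ f
  -- the section over the generators
  let r : free (A := A) (szIdx A k) ⟶ spanObj w := desc fun n i => spanEl w n (.inl i)
  have hr : r ≫ m = r₀ := hom_ext fun n i => by
    rw [comp_f, el_desc_assoc, spanEl_ι]
  -- the acyclic part
  let t₀ : free (A := A) (idxAllFrom A (kerIdx A (szIdx A k))) ⟶ spanObj w :=
    desc fun n j => spanEl w n (.inr j)
  have ht₀ : t₀ ≫ m = desc (stageAllFrom a) ≫ kernel.ι f := hom_ext fun n j => by
    rw [comp_f, comp_f, el_desc_assoc, el_desc_assoc, spanEl_ι]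
  let tS : spanObj (stageAllFrom a) ⟶ spanObj w := cokernel.desc _ t₀ (by
    rw [← cancel_mono m, Category.assoc, ht₀, ← Category.assoc, zero_comp]
    exact (congrArg (· ≫ kernel.ι f) (kernelSubobject_arrow_comp _)).trans zero_comp)
  have htS : tS ≫ m = spanι (stageAllFrom a) ≫ kernel.ι f := by
    rw [← cancel_epi (cokernel.π (shape (stageAllFrom a)).arrow), cokernel.π_desc_assoc, ht₀,
      π_spanι_assoc]
  haveI : Mono tS := mono_of_mono_fac htS
  have h0 : tS ≫ σ = 0 := by
    simp only [σ]
    rw [← Category.assoc, htS, Category.assoc, kernel.condition, comp_zero]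
  let c : cokernel tS ⟶ E := cokernel.desc tS σ h0
  have hπt : ∀ n j, spanEl w n (Sum.inr j) ≫ (cokernel.π tS).f n = 0 := fun n j => by
    have e : spanEl w n (Sum.inr j) = spanEl (stageAllFrom a) n j ≫ tS.f n := by
      rw [← cancel_mono (m.f n), Category.assoc, ← comp_f, htS, comp_f, spanEl_ι_assoc, spanEl_ι]
    rw [e, Category.assoc, ← comp_f, cokernel.condition, zero_f, comp_zero]
  haveI : Epi (r ≫ cokernel.π tS) := Preadditive.epi_of_cancel_zero _ fun {Z} z hz => by
    rw [← cancel_epi (cokernel.π tS), comp_zero, ← cancel_epi (cokernel.π (shape w).arrow), comp_zero]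
    refine hom_ext fun n x => ?_
    rw [zero_f, comp_zero, comp_f, comp_f]
    change el (szIdx A (k + 1)) n x ≫ (cokernel.π (shape w).arrow).f n ≫ _ = 0
    rw [← Category.assoc]
    change spanEl w n x ≫ _ = 0
    rcases x with i | j
    · have h := el (szIdx A k) n i ≫= congr($(hz).f n)
      rw [comp_f, comp_f, zero_f, comp_zero, Category.assoc, el_desc_assoc] at h
      exact h
    · rw [← Category.assoc, hπt, zero_comp]
  have hker : kernel.ι u ≫ r ≫ cokernel.π tS = 0 := HomologicalComplex.hom_ext _ _ fun n => by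
    refine eq_zero_of_gen _ fun z => ?_
    let x : kerIdx A (szIdx A k) n := z ≫ (kernel.ι u).f n
    have hx : x ≫ u.f n = 0 := by
      change (z ≫ (kernel.ι u).f n) ≫ u.f n = 0
      rw [Category.assoc, ← comp_f, kernel.condition, zero_f, comp_zero]
    have ha : a n x ≫ (kernel.ι f).f n = x ≫ r₀.f n := by
      simp only [a, dif_pos hx]
      exact (hlift n x hx).choose_spec
    let j₀ : idxAllFrom A (kerIdx A (szIdx A k)) n := ⟨0, x⟩
    have e : x ≫ r.f n = spanEl (stageAllFrom a) n j₀ ≫ tS.f n := by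
      rw [← cancel_mono (m.f n)]
      simp only [Category.assoc, ← comp_f, hr, htS]
      rw [comp_f, spanEl_ι_assoc]
      exact ha.symm
    rw [comp_f, comp_f, ← Category.assoc]
    change x ≫ r.f n ≫ (cokernel.π tS).f n = 0
    rw [← Category.assoc, e, Category.assoc, ← comp_f, cokernel.condition, zero_f, comp_zero]
  have hc : (r ≫ cokernel.π tS) ≫ c = u := by
    simp only [c, σ, Category.assoc, cokernel.π_desc]
    rw [← Category.assoc, hr, hr₀]
  have hd : u ≫ Abelian.epiDesc u (r ≫ cokernel.π tS) hker = r ≫ cokernel.π tS :=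
    Abelian.comp_epiDesc _ _ _
  haveI : IsIso c := ⟨Abelian.epiDesc u (r ≫ cokernel.π tS) hker,
    by rw [← cancel_epi (r ≫ cokernel.π tS), ← Category.assoc, hc, hd, Category.comp_id],
    by rw [← cancel_epi u, ← Category.assoc, hd, hc, Category.comp_id]⟩
  have hS : (ShortComplex.mk tS σ h0).ShortExact :=
    { exact := ShortComplex.exact_of_g_is_cokernel _
        (IsColimit.ofIsoColimit (cokernelIsCokernel tS)
          (Cofork.ext (asIso c) (cokernel.π_desc _ _ _)))
      epi_g := by
        change Epi σ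
        rw [show σ = cokernel.π tS ≫ c from (cokernel.π_desc _ _ _).symm]
        infer_instance }
  exact ⟨spanObj w, m, ⟨cokernel.π _, inferInstance⟩,
    quasiIso_of_shortExact hS (acyclic_span_stageAllFrom hK a)⟩

variable [HasDerivedCategory.{w} A]

/-- A map out of a small complex in the derived category has a roof with small source. -/
theorem exists_small_roof {k : ℕ} {E W : CochainComplex A ℤ} (hE : IsSmallCx k E)
    (α : DerivedCategory.Q.obj E ⟶ DerivedCategory.Q.obj W) :
    ∃ (S : CochainComplex A ℤ) (σ : S ⟶ E) (g : S ⟶ W), IsSmallCx (k + 1) S ∧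
      IsIso (DerivedCategory.Q.map σ) ∧ DerivedCategory.Q.map σ ≫ α = DerivedCategory.Q.map g := by
  obtain ⟨u, hu⟩ := hE
  obtain ⟨P₀, s, hs, g₀, hα⟩ := DerivedCategory.right_fac α
  let P := P₀ ⊞ free (A := A) (szIdx A k)
  have hinl : _root_.QuasiIso (biprod.inl : P₀ ⟶ P) :=
    quasiIso_of_acyclic_cokernel _ (acyclic_of_iso
      (biprod.isCokernelInlCokernelFork P₀ (free (A := A) (szIdx A k)) |>.coconePointUniqueUpToIso
        (colimit.isColimit _)) (acyclic_free _))
  have hQinl : IsIso (DerivedCategory.Q.map (biprod.inl : P₀ ⟶ P)) := inferInstance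
  let f : P ⟶ E := biprod.desc s u
  have hQf : DerivedCategory.Q.map (biprod.inl : P₀ ⟶ P) ≫ DerivedCategory.Q.map f =
      DerivedCategory.Q.map s := by
    rw [← Functor.map_comp, biprod.inl_desc]
  haveI : IsIso (DerivedCategory.Q.map f) := IsIso.of_isIso_fac_left hQf
  haveI : _root_.QuasiIso f :=
    (DerivedCategory.isIso_Q_map_iff_quasiIso (C := A) f).1 (inferInstance : IsIso (DerivedCategory.Q.map f))
  obtain ⟨S, m, hS, hσ⟩ := exists_small_subobject u f biprod.inr (biprod.inr_desc _ _)
  refine ⟨S, m ≫ f, m ≫ biprod.fst ≫ g₀, hS, inferInstance, ?_⟩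
  have hfst : DerivedCategory.Q.map (biprod.fst : P ⟶ P₀) ≫ DerivedCategory.Q.map s =
      DerivedCategory.Q.map f := by
    rw [← cancel_epi (DerivedCategory.Q.map (biprod.inl : P₀ ⟶ P)), hQf, ← Functor.map_comp_assoc,
      biprod.inl_fst, CategoryTheory.Functor.map_id, Category.id_comp]
  rw [Functor.map_comp, Functor.map_comp, Functor.map_comp, Category.assoc, ← hfst, Category.assoc,
    hα, IsIso.hom_inv_id_assoc]

end Groth.Agent.KInjLib
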