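import Groth.Agent.Lib.KInj.Acyclic

/-!
Subcomplexes spanned by families of elements, and the small family of indices which suffices to
span an acyclic subcomplex of an acyclic complex.
-/

set_option autoImplicit false

universe v u

open CategoryTheory CategoryTheory.Limits HomologicalComplex

namespace Groth.Agent.KInjLib

variable {A : Type u} [Category.{v} A] [Abelian A] [IsGrothendieckAbelian.{v} A]
  {K : CochainComplex A ℤ} {ι : ℤ → Type v}

section Span

variable (u : ∀ n, ι n → (gen A ⟶ K.X n))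

/-- The relations between a family of elements. -/
noncomputable def shape : Subobject (free (A := A) ι) := kernelSubobject (desc u)

/-- The complex spanned by a family of elements. -/
noncomputable abbrev spanObj : CochainComplex A ℤ := cokernel (shape u).arrow

/-- The inclusion of the complex spanned by a family of elements. -/
noncomputable def spanι : spanObj u ⟶ K :=
  cokernel.desc _ (desc u) (kernelSubobject_arrow_comp _)

@[reassoc]
theorem π_spanι : cokernel.π (shape u).arrow ≫ spanι u = desc u := cokernel.π_desc _ _ _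

instance mono_spanι : Mono (spanι u) := by
  refine Preadditive.mono_of_cancel_zero _ fun {P} y hy => ?_
  obtain ⟨P', e, he, x, hx⟩ := surjective_up_to_refinements_of_epi (cokernel.π (shape u).arrow) y
  rw [← cancel_epi e, hx, comp_zero]
  have hxd : x ≫ desc u = 0 := by
    rw [← π_spanι, ← Category.assoc, ← hx, Category.assoc, hy, comp_zero]
  rw [← Subobject.factorThru_arrow _ x (show (shape u).Factors x from
    kernelSubobject_factors (desc u) x hxd), Category.assoc, cokernel.condition, comp_zero]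

/-- The generator of the spanned complex with a given index. -/
noncomputable def spanEl (n : ℤ) (a : ι n) : gen A ⟶ (spanObj u).X n :=
  el ι n a ≫ (cokernel.π (shape u).arrow).f n

@[reassoc]
theorem spanEl_ι (n : ℤ) (a : ι n) : spanEl u n a ≫ (spanι u).f n = u n a := by
  rw [spanEl, Category.assoc, ← comp_f, π_spanι, el_desc]

theorem span_le {S : CochainComplex A ℤ} (f : S ⟶ K) [Mono f]
    (h : ∀ n a, ∃ w : gen A ⟶ S.X n, w ≫ f.f n = u n a) :
    ∃ l : spanObj u ⟶ S, l ≫ f = spanι u := by
  choose w hw using h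
  have hd : desc w ≫ f = desc u := hom_ext fun n a => by rw [comp_f, el_desc_assoc, el_desc, hw]
  refine ⟨cokernel.desc _ (desc w) ?_, ?_⟩
  · rw [← cancel_mono f, Category.assoc, hd, zero_comp]
    exact kernelSubobject_arrow_comp _
  · rw [← cancel_epi (cokernel.π (shape u).arrow), cokernel.π_desc_assoc, hd, π_spanι]

end Span

/-- Refinements of preimages of a boundary. -/
def LiftsTo {Q : CochainComplex A ℤ} {n : ℤ} (g : gen A ⟶ Q.X (n + 1))
    (h : Sg A → (gen A ⟶ Q.X n)) : Prop :=
  ∃ e : Sg A → (gen A ⟶ gen A),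
    (∀ {Z : A} (z : gen A ⟶ Z), (∀ R, e R ≫ z = 0) → z = 0) ∧ ∀ R, e R ≫ g = h R ≫ Q.d n (n + 1)

open Classical in
/-- Chosen refined preimages. -/
noncomputable def lifts {Q : CochainComplex A ℤ} {n : ℤ} (g : gen A ⟶ Q.X (n + 1)) :
    Sg A → (gen A ⟶ Q.X n) :=
  if h : ∃ h, LiftsTo g h then h.choose else 0

theorem liftsTo_lifts {Q : CochainComplex A ℤ} (hQ : Q.Acyclic) {n : ℤ} (g : gen A ⟶ Q.X (n + 1))
    (hg : g ≫ Q.d (n + 1) (n + 1 + 1) = 0) : LiftsTo g (lifts g) := by
  have h : ∃ h, LiftsTo g h := by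
    obtain ⟨P, π, hπ, x, hx⟩ := ((Q.exactAt_iff_exact_up_to_refinements n (n + 1) (n + 1 + 1)
      (by simp) (by simp)).1 (hQ _)) g hg
    obtain ⟨t, ht⟩ := exists_refine π
    exact ⟨fun R => t R ≫ x, fun R => t R ≫ π,
      fun z hz => ht z fun R => by rw [← Category.assoc]; exact hz R,
      fun R => by rw [Category.assoc, hx, Category.assoc]⟩
  rw [lifts, dif_pos h]
  exact h.choose_spec

variable (A) in
/-- Index type of the next stage. -/
def next (ι : ℤ → Type v) (n : ℤ) : Type v :=
  ι n ⊕ (Shrink.{v} (Σ R : Subobject (free (A := A) ι), gen A ⟶ (cokernel R.arrow).X (n + 1)) × Sg A)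

variable {Q : CochainComplex A ℤ}

open Classical in
/-- An element of a possible shape, read in `Q`. -/
noncomputable def cand (u : ∀ n, ι n → (gen A ⟶ Q.X n)) (n : ℤ)
    (x : Σ R : Subobject (free (A := A) ι), gen A ⟶ (cokernel R.arrow).X (n + 1)) :
    gen A ⟶ Q.X (n + 1) :=
  if h : x.1 = shape u then
    x.2 ≫ ((eqToHom (congrArg (fun R : Subobject (free (A := A) ι) => cokernel R.arrow) h)).f (n + 1))
      ≫ (spanι u).f (n + 1)
  else 0

/-- The next stage. -/
noncomputable def step (u : ∀ n, ι n → (gen A ⟶ Q.X n)) : ∀ n, next A ι n → (gen A ⟶ Q.X n) :=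
  fun n x => match x with
    | .inl a => u n a
    | .inr (x, R) => lifts (cand u n ((equivShrink _).symm x)) R

theorem exists_span_map (u : ∀ n, ι n → (gen A ⟶ Q.X n)) :
    ∃ l : spanObj u ⟶ spanObj (step u), l ≫ spanι (step u) = spanι u :=
  span_le u _ fun n a => ⟨spanEl (step u) n (.inl a), spanEl_ι _ _ _⟩

theorem step_kills (hQ : Q.Acyclic) (u : ∀ n, ι n → (gen A ⟶ Q.X n))
    (l : spanObj u ⟶ spanObj (step u)) (hl : l ≫ spanι (step u) = spanι u) (m : ℤ) :
    (spanObj u).iCycles m ≫ l.f m ≫ (spanObj (step u)).pOpcycles m = 0 := by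
  obtain ⟨n, rfl⟩ : ∃ n, m = n + 1 := ⟨m - 1, by omega⟩
  refine eq_zero_of_gen _ fun c => ?_
  let z := c ≫ (spanObj u).iCycles (n + 1)
  let g := z ≫ (spanι u).f (n + 1)
  have hg : g ≫ Q.d (n + 1) (n + 1 + 1) = 0 := by simp [g, z]
  obtain ⟨e, he, hlift⟩ := liftsTo_lifts hQ g hg
  refine he _ fun R => ?_
  have hc : cand u n ((equivShrink _).symm (equivShrink _ ⟨shape u, z⟩)) = g := by
    rw [Equiv.symm_apply_apply, cand, dif_pos rfl]
    simp [g]
  let w : next A ι n := .inr (equivShrink _ ⟨shape u, z⟩, R)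
  have hw : step u n w = lifts g R := by
    change lifts (cand u n _) R = _
    rw [hc]
  have key : (e R ≫ c ≫ (spanObj u).iCycles (n + 1)) ≫ l.f (n + 1) =
      spanEl (step u) n w ≫ (spanObj (step u)).d n (n + 1) := by
    rw [← cancel_mono ((spanι (step u)).f (n + 1))]
    simp only [Category.assoc, ← comp_f, hl]
    rw [← (spanι (step u)).comm, spanEl_ι_assoc, hw]
    exact (by simp [g, z] : _ = e R ≫ g).trans (hlift R)
  calc e R ≫ c ≫ (spanObj u).iCycles (n + 1) ≫ l.f (n + 1) ≫ (spanObj (step u)).pOpcycles (n + 1)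
      = ((e R ≫ c ≫ (spanObj u).iCycles (n + 1)) ≫ l.f (n + 1)) ≫
          (spanObj (step u)).pOpcycles (n + 1) := by simp only [Category.assoc]
    _ = 0 := by rw [key, Category.assoc, d_pOpcycles, comp_zero]

variable (A) in
/-- Index types of the stages, from a given one. -/
def idx (ι₀ : ℤ → Type v) : ℕ → ℤ → Type v
  | 0 => ι₀
  | k + 1 => next A (idx ι₀ k)

variable {ι₀ : ℤ → Type v}

/-- The stages. -/
noncomputable def stage (a : ∀ n, ι₀ n → (gen A ⟶ Q.X n)) :
    ∀ k n, idx A ι₀ k n → (gen A ⟶ Q.X n)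
  | 0 => a
  | k + 1 => step (stage a k)

variable (A) in
/-- The index type of all stages, from a given one. -/
def idxAllFrom (ι₀ : ℤ → Type v) (n : ℤ) : Type v := Σ k, idx A ι₀ k n

variable (A) in
/-- The index type of all stages, from one element in each degree. -/
abbrev idxAll (n : ℤ) : Type v := idxAllFrom A (fun _ => PUnit.{v + 1}) n

/-- All stages together. -/
noncomputable def stageAllFrom (a : ∀ n, ι₀ n → (gen A ⟶ Q.X n)) (n : ℤ) (x : idxAllFrom A ι₀ n) :
    gen A ⟶ Q.X n :=
  stage a x.1 n x.2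

/-- All stages together, from one element in each degree. -/
noncomputable abbrev stageAll (a : ∀ n, gen A ⟶ Q.X n) : ∀ n, idxAll A n → (gen A ⟶ Q.X n) :=
  stageAllFrom fun n _ => a n

/-- The union of an increasing sequence of subcomplexes in which cycles become boundaries one step
later is acyclic. -/
theorem acyclic_of_seq {S : ℕ → CochainComplex A ℤ} (i : ∀ k, S k ⟶ Q) [∀ k, Mono (i k)]
    (t : ∀ k, S k ⟶ S (k + 1)) (ht : ∀ k, t k ≫ i (k + 1) = i k)
    (hkill : ∀ k n, (S k).iCycles n ≫ (t k).f n ≫ (S (k + 1)).pOpcycles n = 0)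
    {T : CochainComplex A ℤ} (j : T ⟶ Q) [Mono j] (l : ∀ k, S k ⟶ T) (hl : ∀ k, l k ≫ j = i k)
    (hsup : ∀ W : Subobject Q, (∀ k, Subobject.mk (i k) ≤ W) → Subobject.mk j ≤ W) :
    T.Acyclic := by
  have hs : Monotone fun k => Subobject.mk (i k) :=
    monotone_nat_of_le_succ fun k => Subobject.mk_le_mk_of_comm (t k) (ht k)
  let tr : ∀ {k k' : ℕ}, k ≤ k' → (S k ⟶ S k') := fun {k k'} h =>
    Subobject.ofMkLEMk (i k) (i k') (hs h)
  have htr : ∀ {k k' : ℕ} (h : k ≤ k'), tr h ≫ i k' = i k := fun h => Subobject.ofMkLEMk_comp _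
  let F : ULift.{v} ℕ ⥤ MonoOver Q :=
    { obj := fun j => MonoOver.mk (i j.down)
      map := fun {j j'} f => MonoOver.homMk (tr (ULift.down_le.2 (leOfHom f)))
        (htr (ULift.down_le.2 (leOfHom f)))
      map_id := by intros; exact Subsingleton.elim _ _
      map_comp := by intros; exact Subsingleton.elim _ _ }
  let c : Cocone (F ⋙ MonoOver.forget _) :=
    { pt := Over.mk j
      ι :=
        { app := fun k => Over.homMk (l k.down) (hl k.down)
          naturality := fun k k' f => by
            have h : k.down ≤ k'.down := ULift.down_le.2 (leOfHom f)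
            ext1
            change tr h ≫ l k'.down = l k.down ≫ 𝟙 _
            rw [← cancel_mono j, Category.assoc, hl, htr h, Category.comp_id, hl] } }
  have : Mono c.pt.hom := inferInstanceAs (Mono j)
  have hsup' : Subobject.mk c.pt.hom = ⨆ k, Subobject.mk (F.obj k).obj.hom :=
    le_antisymm (hsup _ fun k => le_iSup (fun k => Subobject.mk (F.obj k).obj.hom) ⟨k⟩)
      (iSup_le fun k => Subobject.mk_le_mk_of_comm (l k.down) (hl k.down))
  refine acyclic_of_isColimit (F ⋙ MonoOver.forget _ ⋙ Over.forget _)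
    (IsGrothendieckAbelian.isColimitMapCoconeOfSubobjectMkEqISup F c hsup') fun k n =>
      ⟨⟨k.down + 1⟩, homOfLE (ULift.down_le.1 (Nat.le_succ k.down) : k ≤ ⟨k.down + 1⟩), ?_⟩
  have e : tr (Nat.le_succ k.down) = t k.down := by
    rw [← cancel_mono (i (k.down + 1)), htr (Nat.le_succ _), ht]
  change (S k.down).iCycles n ≫ (tr (Nat.le_succ k.down)).f n ≫ (S (k.down + 1)).pOpcycles n = 0
  rw [e]
  exact hkill k.down n

theorem acyclic_span_stageAllFrom (hQ : Q.Acyclic) (a : ∀ n, ι₀ n → (gen A ⟶ Q.X n)) :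
    (spanObj (stageAllFrom a)).Acyclic := by
  have hle : ∀ k, ∃ l : spanObj (stage a k) ⟶ spanObj (stageAllFrom a),
      l ≫ spanι (stageAllFrom a) = spanι (stage a k) :=
    fun k => span_le _ _ fun n x => ⟨spanEl (stageAllFrom a) n ⟨k, x⟩, spanEl_ι _ _ _⟩
  have ht : ∀ k, ∃ t : spanObj (stage a k) ⟶ spanObj (stage a (k + 1)),
      t ≫ spanι (stage a (k + 1)) = spanι (stage a k) := fun k => exists_span_map (stage a k)
  choose l hl using hle
  choose t ht using ht
  refine acyclic_of_seq (fun k => spanι (stage a k)) t ht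
    (fun k n => step_kills hQ (stage a k) (t k) (ht k) n) (spanι (stageAllFrom a)) l hl fun W hW => ?_
  obtain ⟨m, hm⟩ := span_le (stageAllFrom a) W.arrow fun n x =>
    ⟨spanEl (stage a x.1) n x.2 ≫ (Subobject.ofMkLE _ _ (hW x.1)).f n, by
      rw [Category.assoc, ← comp_f, Subobject.ofMkLE_arrow, spanEl_ι]
      rfl⟩
  exact Subobject.mk_le_of_comm m hm

theorem acyclic_span_stageAll (hQ : Q.Acyclic) (a : ∀ n, gen A ⟶ Q.X n) :
    (spanObj (stageAll a)).Acyclic :=
  acyclic_span_stageAllFrom hQ _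

end Groth.Agent.KInjLib
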