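import Groth.Agent.Lib.KInj.Derived
import Groth.Prelude.Def_SpSeq
import Mathlib.Algebra.Homology.HomotopyCategory.ShortExact
import Mathlib.Algebra.Homology.DerivedCategory.ShortExact

/-!
Filtered complexes representing inverse systems in the derived category: mapping telescopes.
-/

set_option autoImplicit false

universe w v u

open CategoryTheory CategoryTheory.Limits CochainComplex CochainComplex.HomComplex

namespace Groth.Agent.KInjLib

variable {A : Type u} [Category.{v} A] [Abelian A] [IsGrothendieckAbelian.{v} A]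
  (I : ℤ → CochainComplex A ℤ) (τ : ∀ j, I (j + 1) ⟶ I j)

/-- The set of indices `≥ i`. -/
def upFrom (i : ℤ) : Set ℤ := {j | i ≤ j}

/-- Maps out of `I j`, `i ≤ j`, by recursion. -/
noncomputable def recFrom {Z : CochainComplex A ℤ} (i : ℤ) (z : I i ⟶ Z)
    (w : ∀ j, i ≤ j → (I (j + 1) ⟶ Z)) (j : ℤ) : I j ⟶ Z :=
  Int.inductionOn' (motive := fun j => I j ⟶ Z) j i z (fun k hk x => w k hk + τ k ≫ x)
    (fun _ _ _ => 0)

theorem recFrom_self {Z : CochainComplex A ℤ} (i : ℤ) (z : I i ⟶ Z)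
    (w : ∀ j, i ≤ j → (I (j + 1) ⟶ Z)) : recFrom I τ i z w i = z :=
  Int.inductionOn'_self

theorem recFrom_succ {Z : CochainComplex A ℤ} (i : ℤ) (z : I i ⟶ Z)
    (w : ∀ j, i ≤ j → (I (j + 1) ⟶ Z)) (j : ℤ) (hj : i ≤ j) :
    recFrom I τ i z w (j + 1) = w j hj + τ j ≫ recFrom I τ i z w j :=
  Int.inductionOn'_add_one hj

/-- The sum of the `I j`, `j ∈ S`. -/
noncomputable abbrev sumI (S : Set ℤ) : CochainComplex A ℤ := ∐ fun j : ULift.{v} S => I j.down.1

/-- The sum of the `I (j + 1)`, `j ∈ S`. -/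
noncomputable abbrev sumI₁ (S : Set ℤ) : CochainComplex A ℤ :=
  ∐ fun j : ULift.{v} S => I (j.down.1 + 1)

/-- The inclusion of a summand. -/
noncomputable abbrev sumι (S : Set ℤ) (j : ℤ) (h : j ∈ S) : I j ⟶ sumI I S :=
  Sigma.ι (fun j : ULift.{v} S => I j.down.1) ⟨⟨j, h⟩⟩

/-- The inclusion of a summand. -/
noncomputable abbrev sumι₁ (S : Set ℤ) (j : ℤ) (h : j ∈ S) : I (j + 1) ⟶ sumI₁ I S :=
  Sigma.ι (fun j : ULift.{v} S => I (j.down.1 + 1)) ⟨⟨j, h⟩⟩

/-- The inclusion between two sums. -/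
noncomputable def sumIncl {S S' : Set ℤ} (h : S ⊆ S') : sumI I S ⟶ sumI I S' :=
  Sigma.desc fun j => sumι I S' j.down.1 (h j.down.2)

/-- The inclusion between two sums. -/
noncomputable def sumIncl₁ {S S' : Set ℤ} (h : S ⊆ S') : sumI₁ I S ⟶ sumI₁ I S' :=
  Sigma.desc fun j => sumι₁ I S' j.down.1 (h j.down.2)

theorem mono_sumIncl {S S' : Set ℤ} (h : S ⊆ S') : IsSplitMono (sumIncl I h) := by
  classical
  exact IsSplitMono.mk' ⟨Sigma.desc fun j => if hj : j.down.1 ∈ S then sumι I S j.down.1 hj else 0,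
    Sigma.hom_ext _ _ fun j => by simp [sumIncl, j.down.2]⟩

theorem mono_sumIncl₁ {S S' : Set ℤ} (h : S ⊆ S') : IsSplitMono (sumIncl₁ I h) := by
  classical
  exact IsSplitMono.mk' ⟨Sigma.desc fun j => if hj : j.down.1 ∈ S then sumι₁ I S j.down.1 hj else 0,
    Sigma.hom_ext _ _ fun j => by simp [sumIncl₁, j.down.2]⟩

@[reassoc]
theorem sumIncl_comp_f {S S' S'' : Set ℤ} (h : S ⊆ S') (h' : S' ⊆ S'') (n : ℤ) :
    (sumIncl I h).f n ≫ (sumIncl I h').f n = (sumIncl I (h.trans h')).f n := by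
  rw [← HomologicalComplex.comp_f]
  exact congrArg (HomologicalComplex.Hom.f · n) (Sigma.hom_ext _ _ fun j => by simp [sumIncl])

@[reassoc]
theorem sumIncl₁_comp_f {S S' S'' : Set ℤ} (h : S ⊆ S') (h' : S' ⊆ S'') (n : ℤ) :
    (sumIncl₁ I h).f n ≫ (sumIncl₁ I h').f n = (sumIncl₁ I (h.trans h')).f n := by
  rw [← HomologicalComplex.comp_f]
  exact congrArg (HomologicalComplex.Hom.f · n) (Sigma.hom_ext _ _ fun j => by simp [sumIncl₁])

section

variable (S : Set ℤ) (hS : ∀ j ∈ S, j + 1 ∈ S)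

/-- The map `1 - τ`. -/
noncomputable def shiftSub : sumI₁ I S ⟶ sumI I S :=
  Sigma.desc fun j =>
    sumι I S (j.down.1 + 1) (hS _ j.down.2) - τ j.down.1 ≫ sumι I S j.down.1 j.down.2

@[reassoc]
theorem ι_shiftSub (j : ℤ) (h : j ∈ S) : sumι₁ I S j h ≫ shiftSub I τ S hS =
    sumι I S (j + 1) (hS _ h) - τ j ≫ sumι I S j h := Sigma.ι_desc _ _

/-- The mapping telescope. -/
noncomputable abbrev tel : CochainComplex A ℤ := mappingCone (shiftSub I τ S hS)

variable {S hS} {S' : Set ℤ} {hS' : ∀ j ∈ S', j + 1 ∈ S'}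

theorem shiftSub_naturality (h : S ⊆ S') :
    shiftSub I τ S hS ≫ sumIncl I h = sumIncl₁ I h ≫ shiftSub I τ S' hS' :=
  Sigma.hom_ext _ _ fun j => by
    simp [shiftSub, sumIncl, sumIncl₁]

/-- The inclusion of telescopes. -/
noncomputable def telIncl (h : S ⊆ S') : tel I τ S hS ⟶ tel I τ S' hS' :=
  mappingCone.map _ _ (sumIncl₁ I h) (sumIncl I h) (shiftSub_naturality I τ h)

theorem mono_telIncl (h : S ⊆ S') : Mono (telIncl I τ (hS := hS) (hS' := hS') h) := by
  have := mono_sumIncl I h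
  have := mono_sumIncl₁ I h
  refine HomologicalComplex.mono_of_mono_f _ fun n => Preadditive.mono_of_cancel_zero _ fun g hg => ?_
  have h1 := mono_of_mono_f' (sumIncl₁ I h) (n + 1)
  have h2 := mono_of_mono_f' (sumIncl I h) n
  rw [mappingCone.ext_to_iff _ n (n + 1) rfl]
  have e1 := congrArg (· ≫ (mappingCone.fst (shiftSub I τ S' hS')).1.v n (n + 1) rfl) hg
  have e2 := congrArg (· ≫ (mappingCone.snd (shiftSub I τ S' hS')).v n n (add_zero n)) hg
  simp [telIncl, mappingCone.map, mappingCone.desc_f _ _ _ _ n (n + 1) rfl] at e1 e2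
  simp only [zero_comp]
  constructor
  · rw [← cancel_mono ((sumIncl₁ I h).f (n + 1)), zero_comp, Category.assoc]
    exact e1
  · rw [← cancel_mono ((sumIncl I h).f n), zero_comp, Category.assoc]
    exact e2
where
  mono_of_mono_f' {X Y : CochainComplex A ℤ} (f : X ⟶ Y) [IsSplitMono f] (n : ℤ) : Mono (f.f n) :=
    inferInstanceAs (Mono ((HomologicalComplex.eval A (ComplexShape.up ℤ) n).map f))

end

theorem upFrom_succ (i : ℤ) : ∀ j ∈ upFrom i, j + 1 ∈ upFrom i := fun j (hj : i ≤ j) => by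
  change i ≤ j + 1; omega

theorem self_mem_upFrom (i : ℤ) : i ∈ upFrom i := le_refl i

/-- The projection to the first term. -/
noncomputable def telProj₀ (i : ℤ) : sumI I (upFrom i) ⟶ I i :=
  Sigma.desc fun j => recFrom I τ i (𝟙 _) (fun _ _ => 0) j.down.1

/-- The retraction of `1 - τ`. -/
noncomputable def telRetr (i : ℤ) : sumI I (upFrom i) ⟶ sumI₁ I (upFrom i) :=
  Sigma.desc fun j => recFrom I τ i 0 (fun k hk => sumι₁ I (upFrom i) k hk) j.down.1

/-- The short complex of a telescope. -/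
noncomputable def telShortComplex (i : ℤ) : ShortComplex (CochainComplex A ℤ) :=
  ShortComplex.mk (shiftSub I τ (upFrom i) (upFrom_succ i)) (telProj₀ I τ i) <|
    Sigma.hom_ext _ _ fun j => by
      simp [shiftSub, telProj₀, recFrom_succ I τ i _ _ j.down.1 j.down.2]

theorem rec_id (i j : ℤ) (hj : i ≤ j) :
    recFrom I τ i 0 (fun k hk => sumι₁ I (upFrom i) k hk) j ≫ shiftSub I τ (upFrom i) (upFrom_succ i) +
      recFrom I τ i (𝟙 (I i)) (fun _ _ => 0) j ≫ sumι I (upFrom i) i (self_mem_upFrom i) =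
        sumι I (upFrom i) j hj := by
  induction j, hj using Int.le_induction with
  | base => simp [recFrom_self]
  | succ k hk ih =>
    rw [recFrom_succ I τ i _ _ k hk, recFrom_succ I τ i _ _ k hk, Preadditive.add_comp, zero_add,
      add_assoc, Category.assoc, Category.assoc, ← Preadditive.comp_add, ih,
      ι_shiftSub I τ (upFrom i) (upFrom_succ i) k hk]
    exact sub_add_cancel _ _

theorem rec_τ (i j : ℤ) (hj : i + 1 ≤ j) :
    recFrom I τ (i + 1) (𝟙 (I (i + 1))) (fun _ _ => 0) j ≫ τ i =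
      recFrom I τ i (𝟙 (I i)) (fun _ _ => 0) j := by
  induction j, hj using Int.le_induction with
  | base => simp [recFrom_succ I τ i _ _ i le_rfl, recFrom_self]
  | succ k hk ih =>
    rw [recFrom_succ I τ i _ _ k (by omega), recFrom_succ I τ (i + 1) _ _ k hk, zero_add, zero_add,
      Category.assoc, ih]

/-- The short complex of a telescope is split. -/
noncomputable def telSplitting (i : ℤ) : (telShortComplex I τ i).Splitting where
  r := telRetr I τ i
  s := sumι I (upFrom i) i (self_mem_upFrom i)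
  f_r := Sigma.hom_ext _ _ fun j => by
    simp [telShortComplex, shiftSub, telRetr, recFrom_succ I τ i _ _ j.down.1 j.down.2]
  s_g := by simp [telShortComplex, telProj₀, recFrom_self]
  id := Sigma.hom_ext _ _ fun j => by
    dsimp only [telShortComplex, telRetr, telProj₀]
    erw [Preadditive.comp_add, Sigma.ι_desc_assoc, Sigma.ι_desc_assoc]
    exact (rec_id I τ i j.down.1 j.down.2).trans (Category.comp_id _).symm

/-- The projection of a telescope to its first term. -/
noncomputable def telProj (i : ℤ) : tel I τ (upFrom i) (upFrom_succ i) ⟶ I i :=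
  mappingCone.descShortComplex (telShortComplex I τ i)

instance (i : ℤ) : _root_.QuasiIso (telProj I τ i) :=
  mappingCone.quasiIso_descShortComplex (telSplitting I τ i).shortExact

/-- The section of the projection. -/
noncomputable def telSec (i : ℤ) : I i ⟶ tel I τ (upFrom i) (upFrom_succ i) :=
  sumι I (upFrom i) i (self_mem_upFrom i) ≫ mappingCone.inr _

theorem telSec_proj (i : ℤ) : telSec I τ i ≫ telProj I τ i = 𝟙 _ := by
  rw [telSec, Category.assoc]
  exact (congrArg (_ ≫ ·) (mappingCone.inr_descShortComplex (telShortComplex I τ i))).trans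
    (telSplitting I τ i).s_g

theorem upFrom_subset (i j : ℤ) (h : i ≤ j) : upFrom j ⊆ upFrom i := fun _ hk => le_trans h hk

theorem telProj_naturality (i : ℤ) :
    telIncl I τ (hS := upFrom_succ (i + 1)) (hS' := upFrom_succ i)
      (upFrom_subset i (i + 1) (by omega)) ≫ telProj I τ i = telProj I τ (i + 1) ≫ τ i := by
  refine mappingCone.map_descShortComplex (S₁ := telShortComplex I τ (i + 1))
    (S₂ := telShortComplex I τ i) (ShortComplex.homMk _ _ (τ i)
      (shiftSub_naturality I τ (hS := upFrom_succ (i + 1)) (hS' := upFrom_succ i)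
        (upFrom_subset i (i + 1) (by omega))).symm ?_)
  refine Sigma.hom_ext _ _ fun j => ?_
  simp only [telShortComplex, telProj₀, sumIncl, Sigma.ι_desc_assoc, Sigma.ι_desc]
  exact (rec_τ I τ i j.down.1 j.down.2).symm

theorem exists_filtered_of_system [HasDerivedCategory.{w} A]
    (E : DerivedCategory A) (Es : ℤ → DerivedCategory A) (t : ∀ i : ℤ, Es (i + 1) ⟶ Es i)
    (a : ∀ i : ℤ, Es i ⟶ E) (hat : ∀ i : ℤ, t i ≫ a i = a (i + 1)) :
    ∃ (K : SpSeq.FilCx A) (e : DerivedCategory.Q.obj K.obj ≅ E)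
      (ei : ∀ i : ℤ, DerivedCategory.Q.obj (K.step i) ≅ Es i),
      (∀ i : ℤ, DerivedCategory.Q.map (K.fil i).arrow ≫ e.hom = (ei i).hom ≫ a i) ∧
      (∀ i : ℤ, DerivedCategory.Q.map (K.stepLE (le_of_lt (Int.lt_succ_self i))) ≫ (ei i).hom =
        (ei (i + 1)).hom ≫ t i) := by
  choose I hI h using fun i => exists_iso_kInjective (Es i)
  let u : ∀ i, Es i ≅ DerivedCategory.Q.obj (I i) := fun i => (h i).some
  obtain ⟨IE, hIE, ⟨uE⟩⟩ := exists_iso_kInjective E
  choose τ hτ using fun i => exists_map_eq ((u (i + 1)).inv ≫ t i ≫ (u i).hom)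
  choose α hα using fun i => exists_map_eq ((u i).inv ≫ a i ≫ uE.hom)
  let hall : ∀ j ∈ (Set.univ : Set ℤ), j + 1 ∈ (Set.univ : Set ℤ) := fun _ _ => Set.mem_univ _
  let φ := shiftSub I τ Set.univ hall
  let β : sumI I Set.univ ⟶ IE := Sigma.desc fun j => α j.down.1
  have hh : Nonempty (Homotopy (φ ≫ β) 0) := homotopy_of_sigma _ _ _ fun j => (map_eq_iff _ _).1 (by
    simp only [φ, shiftSub, β, Sigma.ι_desc_assoc, Preadditive.sub_comp, Category.assoc,
      Sigma.ι_desc, comp_zero, Functor.map_sub, Functor.map_comp, hα, hτ, Iso.hom_inv_id_assoc,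
      reassoc_of% hat, sub_self, Functor.map_zero])
  obtain ⟨z, hz⟩ := Cochain.equivHomotopy _ _ hh.some
  let f : tel I τ Set.univ hall ⟶ IE := mappingCone.desc φ z β (by simpa using hz.symm)
  let T := tel I τ Set.univ hall
  let m : T ⟶ IE ⊞ mappingCone (𝟙 T) := biprod.lift f (mappingCone.inr (𝟙 T))
  have : Mono (mappingCone.inr (𝟙 T)) := HomologicalComplex.mono_of_mono_f _ fun n =>
    (IsSplitMono.mk' ⟨(mappingCone.snd (𝟙 T)).v n n (add_zero n), by simp⟩ : IsSplitMono _).mono
  have : Mono m := mono_of_mono_fac (biprod.lift_snd f (mappingCone.inr (𝟙 T)))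
  let ι : ∀ i, tel I τ (upFrom i) (upFrom_succ i) ⟶ IE ⊞ mappingCone (𝟙 T) := fun i =>
    telIncl I τ (Set.subset_univ _) ≫ m
  have : ∀ i, Mono (ι i) := fun i =>
    @mono_comp _ _ _ _ _ _ (mono_telIncl I τ _) _ ‹Mono m›
  have hι : ∀ i j (hij : i ≤ j), telIncl I τ (upFrom_subset i j hij) ≫ ι i = ι j := fun i j hij => by
    simp only [ι, ← Category.assoc]
    refine congrArg (· ≫ m) ?_
    ext n
    simp [telIncl, mappingCone.map, mappingCone.ext_from_iff _ (n + 1) n rfl, sumIncl_comp_f_assoc,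
      sumIncl₁_comp_f_assoc]
  let K : SpSeq.FilCx A :=
    { obj := IE ⊞ mappingCone (𝟙 T)
      fil := fun i => Subobject.mk (ι i)
      anti := fun i j hij => Subobject.mk_le_mk_of_comm _ (hι i j hij) }
  have : _root_.QuasiIso (biprod.fst : IE ⊞ mappingCone (𝟙 T) ⟶ IE) :=
    quasiIso_biprod_fst (acyclic_of_contractible (mappingCone.homotopyToZeroOfId T))
  have hs : ∀ i, IsIso (DerivedCategory.Q.map (telSec I τ i)) := fun i => by
    have : IsIso (DerivedCategory.Q.map (telSec I τ i) ≫ DerivedCategory.Q.map (telProj I τ i)) := by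
      rw [← Functor.map_comp, telSec_proj]; infer_instance
    exact IsIso.of_isIso_comp_right _ (DerivedCategory.Q.map (telProj I τ i))
  let ei : ∀ i, DerivedCategory.Q.obj (K.step i) ≅ Es i := fun i =>
    DerivedCategory.Q.mapIso (Subobject.underlyingIso (ι i)) ≪≫
      asIso (DerivedCategory.Q.map (telProj I τ i)) ≪≫ (u i).symm
  refine ⟨K, asIso (DerivedCategory.Q.map biprod.fst) ≪≫ uE.symm, ei, fun i => ?_, fun i => ?_⟩
  · have := hs i
    have e1 : telIncl I τ (hS := upFrom_succ i) (hS' := hall) (Set.subset_univ _) ≫ f =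
        telIncl I τ (Set.subset_univ _) ≫ m ≫ biprod.fst := by simp [m]
    have e2 : telSec I τ i ≫ ι i ≫ biprod.fst = α i := by
      simp [ι, m, f, φ, β, telSec, telIncl, mappingCone.map, sumIncl]
    simp only [K, ei, Iso.trans_hom, Functor.mapIso_hom, asIso_hom, Iso.symm_hom, Category.assoc]
    rw [← cancel_epi (DerivedCategory.Q.map (Subobject.underlyingIso (ι i)).inv),
      ← DerivedCategory.Q.map_comp_assoc, ← DerivedCategory.Q.map_comp_assoc,
      Subobject.underlyingIso_arrow, ← DerivedCategory.Q.map_comp_assoc, Iso.inv_hom_id,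
      DerivedCategory.Q.map_id, Category.id_comp, ← cancel_epi (DerivedCategory.Q.map (telSec I τ i)),
      ← DerivedCategory.Q.map_comp_assoc, e2, hα, ← DerivedCategory.Q.map_comp_assoc, telSec_proj,
      DerivedCategory.Q.map_id, Category.id_comp]
    simp
  · simp only [ei, Iso.trans_hom, Functor.mapIso_hom, asIso_hom, Iso.symm_hom, Category.assoc]
    have e3 : K.stepLE (le_of_lt (Int.lt_succ_self i)) ≫ (Subobject.underlyingIso (ι i)).hom =
        (Subobject.underlyingIso (ι (i + 1))).hom ≫ telIncl I τ (upFrom_subset i (i + 1) (by omega)) := by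
      refine (cancel_mono (ι i)).1 ((Category.assoc _ _ _).trans ?_)
      refine Eq.trans ?_ (Category.assoc _ _ _).symm
      exact (congrArg (K.stepLE (le_of_lt (Int.lt_succ_self i)) ≫ ·)
        (Subobject.underlyingIso_hom_comp_eq_mk (ι i))).trans ((Subobject.ofLE_arrow _).trans
        ((Subobject.underlyingIso_hom_comp_eq_mk (ι (i + 1))).symm.trans
          (congrArg (_ ≫ ·) (hι i (i + 1) (by omega)).symm)))
    rw [← DerivedCategory.Q.map_comp_assoc, e3]
    refine ((congrArg (· ≫ _) (DerivedCategory.Q.map_comp _ _)).trans (Category.assoc _ _ _)).trans ?_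
    refine congrArg (DerivedCategory.Q.map (Subobject.underlyingIso (ι (i + 1))).hom ≫ ·) ?_
    rw [← DerivedCategory.Q.map_comp_assoc, telProj_naturality, DerivedCategory.Q.map_comp, hτ]
    simp
where
  quasiIso_biprod_fst {X Y : CochainComplex A ℤ} (hY : Y.Acyclic) :
      _root_.QuasiIso (biprod.fst : X ⊞ Y ⟶ X) := by
    rw [quasiIso_iff]
    intro n
    rw [quasiIsoAt_iff_isIso_homologyMap]
    let F := HomologicalComplex.homologyFunctor A (ComplexShape.up ℤ) n
    have hz : F.map (biprod.snd : X ⊞ Y ⟶ Y) = 0 :=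
      ((HomologicalComplex.exactAt_iff_isZero_homology _ n).1 (hY n)).eq_of_tgt _ _
    refine ⟨F.map biprod.inl, ?_, ?_⟩
    · change F.map biprod.fst ≫ F.map biprod.inl = 𝟙 _
      rw [← F.map_id, ← biprod.total, F.map_add, F.map_comp, F.map_comp, hz, zero_comp, add_zero]
    · change F.map biprod.inl ≫ F.map biprod.fst = 𝟙 _
      rw [← F.map_comp, biprod.inl_fst, F.map_id]

end Groth.Agent.KInjLib
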